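import Cfsg.Agent.SUThreeUnipotent.RankOne

/-!
# The rank one BN-structure of `SU_3(q)`, abstractly

`Model C G`: root group elements `U s d`, torus `T`, involution `S`, with their multiplication rules and the
rank one relation `S U(s,d) S = U(-s/d, 1/d) T(1/σd) S U(-s/σd, 1/d)`.
-/

set_option autoImplicit false

namespace CfsgLib.SUThreePresentation

open CfsgLib.RepBounds.Unit CfsgLib.SUThreeUnipotent
open scoped commutatorElement

variable {F : Type*} [Field F] [Fintype F] (C : ConjField F)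

/-- Parameters of root group elements. -/
def Val (s d : F) : Prop := d + C.σ d + s * C.σ s = 0

/-- The action of the torus on the first parameter. -/
def mu (l : F) : F := C.σ l * C.σ l / l

/-- The norm. -/
def nrm (l : F) : F := l * C.σ l

/-- `l ↦ 1 / σ l` on units. -/
def iota : Fˣ →* Fˣ := (Units.map (C.σ : F →* F))⁻¹

variable {C}

theorem coe_iota (l : Fˣ) : ((iota C l : Fˣ) : F) = (C.σ l)⁻¹ := by
  rw [iota, MonoidHom.inv_apply, Units.val_inv_eq_inv_val]; rfl

theorem sigma_ne {l : F} (h : l ≠ 0) : C.σ l ≠ 0 := (map_ne_zero C.σ).2 h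

theorem mu_mul (a b : F) : mu C (a * b) = mu C a * mu C b := by
  simp only [mu, map_mul, div_eq_mul_inv, mul_inv]; ring

theorem mu_one : mu C (1 : F) = 1 := by simp [mu]

theorem mu_pow (a : F) (n : ℕ) : mu C (a ^ n) = mu C a ^ n := by
  induction n with
  | zero => simp [mu_one]
  | succ n ih => rw [pow_succ, pow_succ, mu_mul, ih]

theorem mu_ne {a : F} (h : a ≠ 0) : mu C a ≠ 0 :=
  div_ne_zero (mul_ne_zero (sigma_ne h) (sigma_ne h)) h

theorem mu_fixed {a : F} (h : C.σ a = a) : mu C a = a := by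
  by_cases h0 : a = 0
  · simp [mu, h0]
  · rw [mu, h, mul_div_assoc, div_self h0, mul_one]

theorem nrm_mul (a b : F) : nrm C (a * b) = nrm C a * nrm C b := by
  simp only [nrm, map_mul]; ring

theorem nrm_one : nrm C (1 : F) = 1 := by simp [nrm]

theorem nrm_pow (a : F) (n : ℕ) : nrm C (a ^ n) = nrm C a ^ n := by
  simp only [nrm, map_pow, mul_pow]

theorem nrm_ne {a : F} (h : a ≠ 0) : nrm C a ≠ 0 := mul_ne_zero h (sigma_ne h)

theorem nrm_fixed (a : F) : C.σ (nrm C a) = nrm C a := by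
  rw [nrm, map_mul, C.invol, mul_comm]

theorem Val.mul {s d s' d' : F} (h : Val C s d) (h' : Val C s' d') :
    Val C (s + s') (d + d' - C.σ s * s') := by
  unfold Val at *
  simp only [map_sub, map_add, map_mul, C.invol]
  linear_combination h + h'

theorem Val.inv {s d : F} (h : Val C s d) : Val C (-s) (C.σ d) := by
  unfold Val at *
  rw [C.invol, map_neg]
  linear_combination h

theorem Val.zero : Val C (0 : F) 0 := by simp [Val]

theorem val_zero_iff {c : F} : Val C 0 c ↔ C.σ c = -c := by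
  simp only [Val, zero_mul, add_zero]
  exact ⟨fun h => by linear_combination h, fun h => by linear_combination h⟩

theorem Val.smul {s d : F} (h : Val C s d) {l : F} (hl : l ≠ 0) :
    Val C (mu C l * s) (nrm C l * d) := by
  have hl' := sigma_ne (C := C) hl
  unfold Val at *
  rw [map_mul, nrm_fixed, map_mul, mu, map_div₀, map_mul, C.invol, nrm]
  field_simp
  linear_combination (l * C.σ l) * h

theorem Val.fst_eq_zero {s : F} (h : Val C s 0) : s = 0 := by
  have h1 : s * C.σ s = 0 := by simpa [Val] using h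
  rcases mul_eq_zero.1 h1 with h2 | h2
  · exact h2
  · exact (map_eq_zero C.σ).1 h2

theorem Val.left {s d : F} (h : Val C s d) (hd : d ≠ 0) : Val C (-s / d) (1 / d) := by
  have hd' := sigma_ne (C := C) hd
  unfold Val at *
  rw [map_div₀, map_div₀, map_one, map_neg]
  field_simp
  linear_combination h

theorem Val.right {s d : F} (h : Val C s d) (hd : d ≠ 0) : Val C (-s / C.σ d) (1 / d) := by
  have hd' := sigma_ne (C := C) hd
  unfold Val at *
  rw [map_div₀, map_div₀, map_one, map_neg, C.invol]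
  field_simp
  linear_combination h

variable (C)

/-- The abstract rank one group. -/
structure Model (G : Type*) [Group G] where
  /-- root group elements -/
  U : F → F → G
  /-- the torus -/
  T : Fˣ →* G
  /-- the involution -/
  S : G
  U_mul : ∀ {s d s' d'}, Val C s d → Val C s' d' →
    U s d * U s' d' = U (s + s') (d + d' - C.σ s * s')
  T_conj : ∀ (l : Fˣ) {s d}, Val C s d → T l * U s d * (T l)⁻¹ = U (mu C l * s) (nrm C l * d)
  S_sq : S * S = 1
  S_T : ∀ l : Fˣ, S * T l * S = T (iota C l)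
  rankOne : ∀ {s d}, Val C s d → ∀ hd : d ≠ 0,
    S * U s d * S = U (-s / d) (1 / d) * T (iota C (Units.mk0 d hd)) * S * U (-s / C.σ d) (1 / d)
  triv : ∀ {s d}, Val C s d → ∀ l : Fˣ, U s d * T l = 1 → s = 0 ∧ d = 0 ∧ l = 1
  S_not : ∀ {s d}, Val C s d → ∀ l : Fˣ, S ≠ U s d * T l
  gen : ∀ H : Subgroup G, (∀ s d, Val C s d → U s d ∈ H) → S ∈ H → H = ⊤

variable {C}

namespace Model

variable {G : Type*} [Group G] (Mo : Model C G)

theorem U_zero : Mo.U 0 0 = 1 := by
  have h := Mo.U_mul (Val.zero (C := C)) Val.zero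
  simp only [map_zero, zero_mul, add_zero, sub_zero] at h
  exact mul_eq_left.1 h

theorem U_inv {s d : F} (h : Val C s d) : (Mo.U s d)⁻¹ = Mo.U (-s) (C.σ d) := by
  refine inv_eq_of_mul_eq_one_right ?_
  rw [Mo.U_mul h h.inv, add_neg_cancel,
    show d + C.σ d - C.σ s * -s = 0 by unfold Val at h; linear_combination h, U_zero]

theorem U_eq_iff {s d s' d' : F} (h : Val C s d) (h' : Val C s' d') :
    Mo.U s d = Mo.U s' d' ↔ s = s' ∧ d = d' := by
  refine ⟨fun e => ?_, fun ⟨a, b⟩ => by rw [a, b]⟩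
  have e1 : Mo.U s d * (Mo.U s' d')⁻¹ = 1 := mul_inv_eq_one.2 e
  rw [Mo.U_inv h', Mo.U_mul h h'.inv] at e1
  obtain ⟨hs, hd, -⟩ := Mo.triv (h.mul h'.inv) 1 (by rw [map_one, mul_one]; exact e1)
  have hs' : s = s' := by linear_combination hs
  subst hs'
  refine ⟨rfl, ?_⟩
  unfold Val at h'
  linear_combination hd - h'

theorem U_commutator {s d s' d' : F} (h : Val C s d) (h' : Val C s' d') :
    ⁅Mo.U s d, Mo.U s' d'⁆ = Mo.U 0 (C.σ s' * s - C.σ s * s') := by
  have hz : Val C 0 (C.σ s' * s - C.σ s * s') := by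
    rw [val_zero_iff, map_sub, map_mul, map_mul, C.invol, C.invol]; ring
  rw [commutatorElement_def, mul_inv_eq_iff_eq_mul, mul_inv_eq_iff_eq_mul, Mo.U_mul h h',
    Mo.U_mul hz h', Mo.U_mul (hz.mul h') h]
  congr 1
  · ring
  · simp only [map_zero, zero_add, zero_mul]; ring

theorem U_central {c s d : F} (hc : Val C 0 c) (h : Val C s d) : Mo.U s d * Mo.U 0 c = Mo.U s (d + c) := by
  rw [Mo.U_mul h hc, add_zero, mul_zero, sub_zero]

theorem commute_central {c s d : F} (hc : Val C 0 c) (h : Val C s d) :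
    Commute (Mo.U s d) (Mo.U 0 c) := by
  rw [Commute, SemiconjBy, Mo.U_central hc h, Mo.U_mul hc h, zero_add, map_zero, zero_mul, sub_zero,
    add_comm]

/-- The central root group. -/
def ZU : Subgroup G where
  carrier := {g | ∃ c, Val C 0 c ∧ g = Mo.U 0 c}
  one_mem' := ⟨0, Val.zero, Mo.U_zero.symm⟩
  mul_mem' := by
    rintro _ _ ⟨a, ha, rfl⟩ ⟨b, hb, rfl⟩
    refine ⟨a + b, ?_, Mo.U_central hb ha⟩
    rw [val_zero_iff] at *
    rw [map_add, ha, hb]; ring
  inv_mem' := by
    rintro _ ⟨a, ha, rfl⟩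
    exact ⟨C.σ a, by simpa using ha.inv, by rw [Mo.U_inv ha, neg_zero]⟩

theorem mem_ZU {g : G} : g ∈ Mo.ZU ↔ ∃ c, Val C 0 c ∧ g = Mo.U 0 c := Iff.rfl

/-- The root group. -/
def UU : Subgroup G where
  carrier := {g | ∃ s d, Val C s d ∧ g = Mo.U s d}
  one_mem' := ⟨0, 0, Val.zero, Mo.U_zero.symm⟩
  mul_mem' := by
    rintro _ _ ⟨s, d, h, rfl⟩ ⟨s', d', h', rfl⟩
    exact ⟨_, _, h.mul h', Mo.U_mul h h'⟩
  inv_mem' := by
    rintro _ ⟨s, d, h, rfl⟩
    exact ⟨_, _, h.inv, Mo.U_inv h⟩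

theorem mem_UU {g : G} : g ∈ Mo.UU ↔ ∃ s d, Val C s d ∧ g = Mo.U s d := Iff.rfl

theorem ZU_le : Mo.ZU ≤ Mo.UU := fun _ ⟨c, hc, e⟩ => ⟨0, c, hc, e⟩

theorem exists_pow {s d : F} (h : Val C s d) :
    ∀ n : ℕ, ∃ d', Val C ((n : F) * s) d' ∧ Mo.U s d ^ n = Mo.U ((n : F) * s) d' := by
  intro n
  induction n with
  | zero => exact ⟨0, by simp [Val], by simp [Mo.U_zero]⟩
  | succ n ih =>
    obtain ⟨d', hd', e⟩ := ih
    refine ⟨d' + d - C.σ ((n : F) * s) * s, ?_, ?_⟩
    · rw [Nat.cast_succ, add_mul, one_mul]; exact hd'.mul h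
    · rw [pow_succ, e, Mo.U_mul hd' h, Nat.cast_succ, add_mul, one_mul]

theorem pow_central {c : F} (hc : Val C 0 c) : ∀ n : ℕ, Mo.U 0 c ^ n = Mo.U 0 ((n : F) * c) := by
  intro n
  induction n with
  | zero => simp [Mo.U_zero]
  | succ n ih =>
    have hn : Val C 0 ((n : F) * c) := by
      rw [val_zero_iff] at *; rw [map_mul, map_natCast, hc]; ring
    rw [pow_succ, ih, Mo.U_central hc hn, Nat.cast_succ, add_mul, one_mul]

end Model

section Exists

variable {ι : Type*} [Fintype ι] [DecidableEq ι] (Φ : Frame C 0 ι)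

theorem vec_of (x : ι → F) :
    x = Φ.vec (herm C x (Φ.f 0)) (herm C x (-Φ.x0)) (herm C x (Φ.e 0)) := by
  obtain ⟨h1, h2, h3⟩ := Φ.herm_vec (herm C x (Φ.f 0)) (herm C x (-Φ.x0)) (herm C x (Φ.e 0))
  refine Φ.ext (fun i hi => ?_) (fun i hi => ?_) ?_
  · rw [Nat.le_zero.1 hi, h1]
  · rw [Nat.le_zero.1 hi, h3]
  · rw [herm_neg_r C _ Φ.x0] at h2
    refine neg_injective (Eq.trans ?_ h2.symm)
    exact (herm_neg_r C x Φ.x0).symm

theorem ext_vec {g g' : suG C ι} (h : ∀ a y z, app C g (Φ.vec a y z) = app C g' (Φ.vec a y z)) :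
    g = g' := suG_ext C fun x => by rw [vec_of Φ x]; exact h _ _ _

theorem vec_inj {a y z a' y' z' : F} (e : Φ.vec a y z = Φ.vec a' y' z') :
    a = a' ∧ y = y' ∧ z = z' := by
  obtain ⟨h1, h2, h3⟩ := Φ.herm_vec a y z
  obtain ⟨h1', h2', h3'⟩ := Φ.herm_vec a' y' z'
  rw [e] at h1 h2 h3
  exact ⟨h3.symm.trans h3', h2.symm.trans h2', h1.symm.trans h1'⟩

theorem app_lin (g : suG C ι) (a y z : F) :
    app C g (Φ.vec a y z) = a • app C g (Φ.e 0) + y • app C g (-Φ.x0) + z • app C g (Φ.f 0) := by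
  rw [Frame.vec, app_add, app_add, app_smul, app_smul, app_smul]

include Φ in
/-- The rank one structure on `SU_3`. -/
theorem exists_model (hι : ¬ (Fintype.card ι = 3 ∧ C.q = 2)) : Nonempty (Model C (suG C ι)) := by
  classical
  choose M hMe hMx hMf using fun l : Fˣ => Φ.exists_monomial (d := (l : F)) l.ne_zero
  have hM : ∀ (l : Fˣ) (a y z : F), app C (M l) (Φ.vec a y z) =
      Φ.vec ((l : F) * z) (-(C.σ l / l) * y) ((C.σ l)⁻¹ * a) := fun l a y z => by
    rw [app_lin, hMe, hMx, hMf, Frame.vec]; module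
  have hS : ∀ a y z, app C (M 1) (Φ.vec a y z) = Φ.vec z (-y) a := fun a y z => by
    rw [hM]; simp
  have hT : ∀ (l : Fˣ) a y z, app C (M l * M 1) (Φ.vec a y z) =
      Φ.vec ((l : F) * a) (C.σ l / l * y) ((C.σ l)⁻¹ * z) := fun l a y z => by
    rw [app_mul, hS, hM]; congr 1; ring
  let T : Fˣ →* suG C ι := MonoidHom.mk' (fun l => M l * M 1) (fun l l' => ext_vec Φ fun a y z => by
    rw [hT, app_mul C (M l * M 1), hT, hT]
    congr 1 <;> simp only [Units.val_mul, map_mul, div_eq_mul_inv, mul_inv] <;> ring)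
  have hT' : ∀ (l : Fˣ) a y z, app C (T l) (Φ.vec a y z) =
      Φ.vec ((l : F) * a) (C.σ l / l * y) ((C.σ l)⁻¹ * z) := hT
  let U : F → F → suG C ι := fun s d => if h : Val C s d then (Φ.valid_e h).choose else 1
  have hU : ∀ {s d}, Val C s d → IsE C (U s d) (Φ.e 0) (s • (-Φ.x0)) d := fun {s d} h => by
    simp only [U, dif_pos h]; exact (Φ.valid_e h).choose_spec
  have hUv : ∀ {s d}, Val C s d → ∀ a y z, app C (U s d) (Φ.vec a y z) =
      Φ.vec (a + d * z - C.σ s * y) (y + s * z) z := fun h => Φ.app_e (hU h)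
  refine ⟨{ U := U, T := T, S := M 1, U_mul := ?_, T_conj := ?_, S_sq := ?_, S_T := ?_,
            rankOne := ?_, triv := ?_, S_not := ?_, gen := ?_ }⟩
  · intro s d s' d' h h'
    refine ext_vec Φ fun a y z => ?_
    rw [app_mul, hUv h', hUv h, hUv (h.mul h')]
    congr 1
    · rw [map_add]; ring
    · ring
  · intro l s d h
    refine mul_inv_eq_of_eq_mul (ext_vec Φ fun a y z => ?_)
    have hl := l.ne_zero
    have hl' := sigma_ne (C := C) hl
    rw [app_mul, app_mul, hUv h, hT', hT', hUv (h.smul hl)]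
    congr 1
    · simp only [mu, nrm, map_div₀, map_mul, C.invol]; field_simp
    · simp only [mu]; field_simp
  · exact ext_vec Φ fun a y z => by rw [app_mul, hS, hS, app_one, neg_neg]
  · intro l
    refine ext_vec Φ fun a y z => ?_
    have hl := l.ne_zero
    have hl' := sigma_ne (C := C) hl
    rw [app_mul, app_mul, hS, hT', hS, hT', coe_iota, map_inv₀, C.invol]
    congr 1 <;> field_simp
  · intro s d h hd
    refine ext_vec Φ fun a y z => ?_
    have hd' := sigma_ne (C := C) hd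
    have hs : C.σ d = -d - s * C.σ s := by unfold Val at h; linear_combination h
    rw [app_mul, app_mul, hS, hUv h, hS, app_mul, app_mul, app_mul, hUv (h.right hd), hS, hT',
      hUv (h.left hd), coe_iota, Units.val_mk0, map_inv₀, C.invol]
    congr 1 <;> simp only [map_div₀, map_neg, C.invol] <;> field_simp <;>
      (try simp only [hs]) <;> ring
  · intro s d h l e
    have hl := l.ne_zero
    have e1 : ∀ a y z, app C (U s d * T l) (Φ.vec a y z) = Φ.vec a y z := fun a y z => by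
      rw [e, app_one]
    have e2 := e1 1 0 0
    have e3 := e1 0 0 1
    rw [app_mul, hT', hUv h] at e2 e3
    obtain ⟨a1, -, -⟩ := vec_inj Φ e2
    simp only [mul_zero, add_zero, sub_zero, mul_one] at a1
    have l1 : l = 1 := Units.ext (by simpa using a1)
    subst l1
    obtain ⟨a3, y3, -⟩ := vec_inj Φ e3
    simp at a3 y3
    exact ⟨y3, a3, rfl⟩
  · intro s d h l e
    have e1 : app C (M 1) (Φ.vec 1 0 0) = app C (U s d * T l) (Φ.vec 1 0 0) := by rw [e]
    rw [hS, app_mul, hT', hUv h] at e1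
    simpa using (vec_inj Φ e1).2.2
  · intro H hH hSH
    refine Φ.eq_top_of_unip hι (fun s d h => ⟨_, hH s d h, hU h⟩) hSH ?_
    rw [hMe, Units.val_one, map_one, inv_one, one_smul, Φ.fe le_rfl le_rfl, if_pos rfl]
    exact one_ne_zero

end Exists

end CfsgLib.SUThreePresentation
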