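import Cfsg.Agent.SUThreePresentation.Relations

/-!
# Short presentations of `SU_3(q)` and `PSU_3(q)`
-/

set_option autoImplicit false

namespace CfsgLib.SUThreePresentation

open CfsgLib.RepBounds.Unit CfsgLib.SUThreeUnipotent Subgroup

variable {F : Type*} [Field F] [Fintype F] {C : ConjField F} {ι : Type*} [Fintype ι] [DecidableEq ι]

theorem central_scalar (Φ : Frame C 0 ι) {c : suG C ι} (hc : c ∈ center (suG C ι)) :
    ∃ a : F, ∀ v, app C c v = a • v := by
  have comm : ∀ (g : suG C ι) v, app C c (app C g v) = app C g (app C c v) := fun g v => by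
    rw [← app_mul, ← app_mul, mem_center_iff.1 hc g]
  obtain ⟨a0, ha0, ha00⟩ := C.exists_skew_ne
  obtain ⟨t, ht⟩ := C.exists_trace_one
  obtain ⟨g0, hg0⟩ := Φ.valid_e (s := (0 : F)) (d := a0)
    (by rw [C.skew_eq ha0, zero_mul, add_zero, add_neg_cancel])
  obtain ⟨g1, hg1⟩ := Φ.valid_e (s := (1 : F)) (d := -t)
    (by rw [map_neg, map_one]; linear_combination -ht)
  obtain ⟨S, hSe, -, -⟩ := Φ.exists_monomial (d := (1 : F)) one_ne_zero
  rw [map_one, inv_one, one_smul] at hSe
  have hgen : app C c (Φ.e 0) = herm C (app C c (Φ.e 0)) (Φ.f 0) • Φ.e 0 := by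
    have hce := vec_of Φ (app C c (Φ.e 0))
    set a := herm C (app C c (Φ.e 0)) (Φ.f 0)
    set y := herm C (app C c (Φ.e 0)) (-Φ.x0)
    set z := herm C (app C c (Φ.e 0)) (Φ.e 0)
    have h0 := comm g0 (Φ.e 0)
    rw [hce, Φ.app_e hg0, Φ.vec_e, Φ.app_e hg0] at h0
    simp only [mul_zero, add_zero, map_zero, zero_mul, sub_zero] at h0
    rw [← Φ.vec_e, hce] at h0
    obtain ⟨hz1, -, -⟩ := vec_inj Φ h0
    have hz : z = 0 := by
      rcases mul_eq_zero.1 (show a0 * z = 0 by linear_combination -hz1) with h | h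
      · exact absurd h ha00
      · exact h
    have h1 := comm g1 (Φ.e 0)
    rw [hce, Φ.app_e hg1, Φ.vec_e, Φ.app_e hg1] at h1
    simp only [mul_zero, add_zero, sub_zero, map_one, one_mul] at h1
    rw [← Φ.vec_e, hce, hz] at h1
    obtain ⟨hy1, -, -⟩ := vec_inj Φ h1
    have hy : y = 0 := by linear_combination hy1
    rw [hce, hz, hy, Φ.vec_e, Φ.smul_vec, mul_one, mul_zero]
  refine ⟨herm C (app C c (Φ.e 0)) (Φ.f 0), ?_⟩
  set a := herm C (app C c (Φ.e 0)) (Φ.f 0)
  have hf : app C c (Φ.f 0) = a • Φ.f 0 := by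
    rw [← hSe, comm, hgen, app_smul]
  have hx : app C c (-Φ.x0) = a • (-Φ.x0) := by
    have h := comm g1 (Φ.f 0)
    rw [Φ.vec_f, Φ.app_e hg1, ← Φ.vec_f, hf, app_smul, Φ.vec_f, Φ.app_e hg1] at h
    simp only [map_one, mul_zero, sub_zero, zero_add, mul_one, Frame.vec, app_add, app_smul, hf, hgen,
      one_smul, smul_add, zero_smul] at h
    linear_combination (norm := module) h
  intro v
  rw [vec_of Φ v, app_lin, hgen, hx, hf, Φ.vec_e, Φ.vec_x, Φ.vec_f, Φ.smul_vec, Φ.smul_vec, Φ.smul_vec,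
    Φ.smul_vec, Φ.smul_vec, Φ.smul_vec, Φ.add_vec, Φ.add_vec, Φ.smul_vec]
  congr 1 <;> ring

theorem center_isCyclic (Φ : Frame C 0 ι) : IsCyclic (center (suG C ι)) := by
  classical
  choose a ha using fun c : center (suG C ι) => central_scalar Φ c.2
  have hval : ∀ (c : center (suG C ι)), a c = herm C (app C (c : suG C ι) (Φ.e 0)) (Φ.f 0) := fun c => by
    rw [ha, herm_smul_left, Φ.ef 0 0 le_rfl le_rfl, if_pos rfl, mul_one]
  let χ : center (suG C ι) →* F :=
    { toFun := a
      map_one' := by rw [hval]; simp [app_one, Φ.ef 0 0 le_rfl le_rfl]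
      map_mul' := fun c c' => by
        rw [hval, Subgroup.coe_mul, app_mul, ha c', app_smul, ha c, smul_smul, herm_smul_left,
          Φ.ef 0 0 le_rfl le_rfl, if_pos rfl, mul_one, mul_comm] }
  refine isCyclic_of_injective_ringHom χ fun c c' e => Subtype.ext (suG_ext C fun v => ?_)
  rw [ha c, ha c', show a c = a c' from e]

/-- Both presentations, for the model group. -/
theorem exists_presentations (C : ConjField F) (h4 : 4 ≤ C.q) (h5 : C.q ≠ 5) :
    (∃ rels : Finset (FreeGroup (Fin 3)), rels.card ≤ 23 ∧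
      Nonempty (PresentedGroup (↑rels : Set (FreeGroup (Fin 3))) ≃* suG C (Fin 3))) ∧
    (∃ rels : Finset (FreeGroup (Fin 3)), rels.card ≤ 24 ∧
      Nonempty (PresentedGroup (↑rels : Set (FreeGroup (Fin 3))) ≃*
        suG C (Fin 3) ⧸ center (suG C (Fin 3)))) := by
  obtain ⟨Φ⟩ : Nonempty (Frame C 0 (Fin 3)) := exists_frame C 0
  obtain ⟨Mo⟩ := exists_model Φ (by rintro ⟨-, h⟩; omega)
  obtain ⟨D⟩ := exists_scal C (by omega)
  obtain ⟨φ, rels, hcard, hφ, hker, hiso⟩ := exists_rels Mo D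
  refine ⟨⟨rels, by omega, hiso⟩, ?_⟩
  have := center_isCyclic Φ
  obtain ⟨c, hc⟩ := IsCyclic.exists_generator (α := center (suG C (Fin 3)))
  have hN : normalClosure {(c : suG C (Fin 3))} = center (suG C (Fin 3)) := by
    refine le_antisymm (normalClosure_le_normal (Set.singleton_subset_iff.2 c.2)) fun y hy => ?_
    obtain ⟨n, hn⟩ := hc ⟨y, hy⟩
    rw [show y = ((c ^ n : center (suG C (Fin 3))) : suG C (Fin 3)) from (congrArg Subtype.val hn).symm]
    rw [Subgroup.coe_zpow]
    exact zpow_mem (subset_normalClosure (Set.mem_singleton _)) n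
  obtain ⟨rels', hcard', hiso'⟩ := presented_quotient φ hφ hker _ hN
  exact ⟨rels', by omega, hiso'⟩

end CfsgLib.SUThreePresentation
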