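import Cfsg.Agent.SUThreePresentation.Main
import Cfsg.Agent.SUThreeUnipotent.RankOneTwo
import Cfsg.Agent.BoundedAlt.Tietze
import Cfsg.Agent.PresLib.Quotient

/-!
# Two-generator presentations of `SU_3(q)` and `PSU_3(q)`, every `q ≥ 3`
-/

set_option autoImplicit false

namespace CfsgLib.SUThreePresentation

open CfsgLib.RepBounds.Unit CfsgLib.SUThreeUnipotent Subgroup

variable {F : Type*} [Field F] [Fintype F]

/-- `SU_3(q)` has a two generator presentation with at most twenty four relations. -/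
theorem exists_two_gen_su (C : ConjField F) (hq : 3 ≤ C.q) :
    ∃ rels : Finset (FreeGroup (Fin 2)), rels.card ≤ 24 ∧
      Nonempty (PresentedGroup (↑rels : Set (FreeGroup (Fin 2))) ≃* suG C (Fin 3)) := by
  obtain ⟨Φ⟩ : Nonempty (Frame C 0 (Fin 3)) := exists_frame C 0
  obtain ⟨Mo⟩ := exists_model Φ (by rintro ⟨-, h⟩; omega)
  obtain ⟨D⟩ := exists_scal C hq
  obtain ⟨-, rels, hcard, -, -, ⟨e⟩⟩ := exists_rels Mo D
  obtain ⟨u, g, -, hgen⟩ := generate_two_dim_three C hq
  obtain ⟨rels', hc', e', -⟩ := CfsgLib.BoundedAlt.retarget_pair rels hcard e u (g * u * g⁻¹) hgen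
  exact ⟨rels', hc', ⟨e'⟩⟩

/-- `PSU_3(q)` has a two generator presentation with at most eighty relations. -/
theorem exists_two_gen_psu (C : ConjField F) (hq : 3 ≤ C.q) :
    ∃ rels : Finset (FreeGroup (Fin 2)), rels.card ≤ 80 ∧
      Nonempty (PresentedGroup (↑rels : Set (FreeGroup (Fin 2))) ≃*
        suG C (Fin 3) ⧸ center (suG C (Fin 3))) := by
  obtain ⟨rels, hcard, ⟨e⟩⟩ := exists_two_gen_su C hq
  obtain ⟨Φ⟩ : Nonempty (Frame C 0 (Fin 3)) := exists_frame C 0
  have := center_isCyclic Φ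
  obtain ⟨c, hc⟩ := IsCyclic.exists_generator (α := center (suG C (Fin 3)))
  obtain ⟨z, hz⟩ := PresentedGroup.mk_surjective _ (e.symm (c : suG C (Fin 3)))
  have hN : normalClosure {e (PresentedGroup.mk _ z)} = center (suG C (Fin 3)) := by
    rw [hz, MulEquiv.apply_symm_apply]
    refine le_antisymm (normalClosure_le_normal (Set.singleton_subset_iff.2 c.2)) fun y hy => ?_
    obtain ⟨n, hn⟩ := hc ⟨y, hy⟩
    rw [show y = ((c ^ n : center (suG C (Fin 3))) : suG C (Fin 3)) from (congrArg Subtype.val hn).symm]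
    rw [Subgroup.coe_zpow]
    exact zpow_mem (subset_normalClosure (Set.mem_singleton _)) n
  obtain ⟨rels', hc', he'⟩ := CfsgLib.PresLib.presentation_quotient rels 24 hcard e _ z hN
  exact ⟨rels', by omega, he'⟩

end CfsgLib.SUThreePresentation
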