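import Cfsg.Agent.SUThreePresentation.Pres

/-!
# The Borel subgroup of a group with the short relations maps isomorphically
-/

set_option autoImplicit false

namespace CfsgLib.SUThreePresentation

open CfsgLib.RepBounds.Unit Subgroup
open scoped commutatorElement

variable {P : Type*} [Group P]

theorem cj_succ (h x : P) (n : ℕ) : MulAut.conj h (cj h x n) = cj h x (n + 1) := by
  rw [cj, cj, ← MulAut.mul_apply, ← map_mul, ← pow_succ']

theorem cj_cj (h x : P) (a b : ℕ) : cj h (cj h x a) b = cj h x (b + a) := by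
  rw [cj, cj, cj, ← MulAut.mul_apply, ← map_mul, ← pow_add]

theorem cj_zero (h x : P) : cj h x 0 = x := by simp [cj]

theorem cj_mul (h x y : P) (n : ℕ) : cj h (x * y) n = cj h x n * cj h y n := map_mul _ _ _

theorem cj_mem_of_normalizer {H : Subgroup P} {h : P} (hn : h ∈ normalizer (H : Set P)) {x : P}
    (hx : x ∈ H) (n : ℕ) : cj h x n ∈ H := by
  rw [cj, MulAut.conj_apply]
  exact (mem_normalizer_iff.1 (pow_mem hn n) x).1 hx

theorem Commute.cj_map {x y : P} (c : Commute x y) (h : P) (n : ℕ) :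
    Commute (cj h x n) (cj h y n) := by
  simpa [cj] using c.map (MulAut.conj (h ^ n)).toMonoidHom

variable {F : Type*} [Field F] [Fintype F] {C : ConjField F} {G : Type*} [Group G]
  {Mo : Model C G} {D : Scal C}

theorem nrm_mu {a : F} (ha : a ≠ 0) : nrm C (mu C a) = nrm C a := by
  have ha' := sigma_ne (C := C) ha
  rw [nrm, mu, map_div₀, map_mul, C.invol, nrm]
  field_simp

namespace Scal

theorem val_x (D : Scal C) (n : ℕ) : Val C (D.mug ^ n) (D.nu ^ n * D.d1) := by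
  have h := D.d1_val.smul (l := (D.g : F) ^ n) (pow_ne_zero _ D.g_ne)
  rwa [mu_pow, nrm_pow, mul_one] at h

theorem val_cent (D : Scal C) {c : F} (hc : Val C 0 c) (n : ℕ) : Val C 0 (D.nu ^ n * c) := by
  rw [val_zero_iff] at *
  rw [map_mul, map_pow, D.nu_fixed, hc]; ring

theorem nu_pow_qq (D : Scal C) : D.nu ^ (C.q + 1) = D.nu ^ 2 := by
  have h4 := D.three_le
  rw [show C.q + 1 = C.q - 1 + 2 by omega, pow_add, Scal.pow_pred_of_fixed D.nu_fixed D.nu_ne, one_mul]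

end Scal

namespace Pres

variable (Q : Pres Mo D P)

/-- `z_n`. -/
abbrev z (n : ℕ) : P := cj Q.h (zed Q.u Q.h) n

/-- `u_n`. -/
abbrev x (n : ℕ) : P := cj Q.h Q.u n

/-- The central root group. -/
abbrev K : Subgroup P := kGrp Q.u Q.h

/-- The root group. -/
abbrev W : Subgroup P := wGrp Q.u Q.h

/-- The starting central parameter. -/
def c0 (_Q : Pres Mo D P) : F := C.σ D.mug - D.mug

theorem c0_val : Val C 0 Q.c0 := by rw [val_zero_iff, c0, map_sub, C.invol]; ring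

theorem c0_ne : Q.c0 ≠ 0 := sub_ne_zero.2 D.mug_not_fixed

theorem p_prime (_Q : Pres Mo D P) : (ringChar F).Prime := CharP.char_is_prime F (ringChar F)

theorem f_cj_U {a : P} {s d : F} (hv : Val C s d) (ha : Q.f a = Mo.U s d) (n : ℕ) :
    Q.f (cj Q.h a n) = Mo.U (D.mug ^ n * s) (D.nu ^ n * d) := by
  rw [map_cj, cj, MulAut.conj_apply, Q.f_h, ha, ← map_pow, Mo.T_conj _ hv, Units.val_pow_eq_pow_val,
    mu_pow, nrm_pow, Scal.mug, Scal.nu]

theorem f_x (n : ℕ) : Q.f (Q.x n) = Mo.U (D.mug ^ n) (D.nu ^ n * D.d1) := by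
  rw [Q.f_cj_U D.d1_val Q.f_u, mul_one]

theorem f_zed : Q.f (zed Q.u Q.h) = Mo.U 0 Q.c0 := by
  rw [zed, map_commutatorElement, Q.f_x, Q.f_u, Mo.U_commutator D.d1_val (D.val_x 1), pow_one, c0,
    mul_one, map_one, one_mul]

theorem f_z (n : ℕ) : Q.f (Q.z n) = Mo.U 0 (D.nu ^ n * Q.c0) := by
  rw [Q.f_cj_U Q.c0_val Q.f_zed, mul_zero]

theorem cj_period (y : P) (n t : ℕ) : cj Q.h y (n + t * D.m) = cj Q.h y n := by
  rw [cj, cj, pow_add, mul_comm t, pow_mul, Q.h_pow, one_pow, mul_one]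

theorem h_normalizes (y : P) : Q.h ∈ normalizer (closure (Set.range (cj Q.h y)) : Set P) := by
  refine mem_normalizer_of_pow_mem D.m_pos (by rw [Q.h_pow]; exact one_mem _) ?_
  intro a ha
  refine ((closure_le ((closure (Set.range (cj Q.h y))).comap (MulAut.conj Q.h).toMonoidHom)).2 ?_) ha
  rintro _ ⟨n, rfl⟩
  show MulAut.conj Q.h (cj Q.h y n) ∈ closure (Set.range (cj Q.h y))
  rw [cj_succ]
  exact subset_closure ⟨n + 1, rfl⟩

theorem h_normK : Q.h ∈ normalizer (Q.K : Set P) := Q.h_normalizes _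

theorem h_normW : Q.h ∈ normalizer (Q.W : Set P) := by
  refine mem_normalizer_of_pow_mem D.m_pos (by rw [Q.h_pow]; exact one_mem _) ?_
  intro a ha
  have hle : Q.W ≤ Q.W.comap (MulAut.conj Q.h).toMonoidHom := sup_le
    (fun b hb => mem_sup_left ((mem_normalizer_iff.1 (Q.h_normalizes Q.u) b).1 hb))
    (fun b hb => mem_sup_right ((mem_normalizer_iff.1 Q.h_normK b).1 hb))
  exact hle ha

theorem z_comm_all (a b : ℕ) : Commute (Q.z a) (Q.z b) := by
  have h0 : ∀ n, Commute (zed Q.u Q.h) (Q.z n) := by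
    intro n
    rcases Q.tel with ⟨⟨i, hi⟩, -⟩ | ⟨hs, -⟩
    swap
    · obtain ⟨c, hc⟩ := hs n
      rw [show Q.z n = zed Q.u Q.h ^ c from hc.symm]
      exact Commute.self_zpow _ _
    have e : MulAut.conj (Q.h ^ i) (zed Q.u Q.h) =
        zed Q.u Q.h * MulAut.conj Q.h (zed Q.u Q.h) := by
      simpa [cj] using hi
    exact commute_tel (Commute.self_pow Q.h i) e e (Commute.refl _) (by simpa [cj] using Q.z_comm) n
  have h1 := Commute.cj_map (h0 (b + a * (D.m - 1))) Q.h a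
  rw [cj_cj] at h1
  have e : a + (b + a * (D.m - 1)) = b + a * D.m := by
    obtain ⟨r, hr⟩ : ∃ r, D.m = r + 1 := ⟨D.m - 1, by have := D.m_pos; omega⟩
    rw [hr, Nat.add_sub_cancel]; ring
  rwa [e, Q.cj_period] at h1

theorem K_comm {a b : P} (ha : a ∈ Q.K) (hb : b ∈ Q.K) : Commute a b := by
  induction ha using closure_induction with
  | mem a ha =>
    obtain ⟨i, rfl⟩ := ha
    induction hb using closure_induction with
    | mem b hb => obtain ⟨j, rfl⟩ := hb; exact Q.z_comm_all i j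
    | one => exact Commute.one_right _
    | mul b c _ _ h1 h2 => exact h1.mul_right h2
    | inv b _ h1 => exact h1.inv_right
  | one => exact Commute.one_left _
  | mul a c _ _ h1 h2 => exact h1.mul_left h2
  | inv a _ h1 => exact h1.inv_left

theorem K_le_chain {k : ℕ} (hk : Q.z k ∈ chain Q.z ⊥ k) : Q.K ≤ chain Q.z ⊥ k :=
  (closure_le _).2 <| by
    rintro _ ⟨n, rfl⟩
    exact mem_chain_of_dep (MulAut.conj Q.h).toMonoidHom (fun i => cj_succ _ _ i)
      (fun y hy => by rw [mem_bot] at hy ⊢; rw [hy, map_one]) hk n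

theorem K_inj {a : P} (ha : a ∈ Q.K) (h : Q.f a = 1) : a = 1 := by
  obtain ⟨k, hk, hmin⟩ := Q.z_dep
  refine mem_bot.1 (mem_of_map_mem Q.p_prime (fun i => ?_) (fun i y hy => ?_) (fun i j => ?_) hmin a
    (Q.K_le_chain hk ha) (by rw [Subgroup.map_bot, mem_bot]; exact h))
  · rw [mem_bot, cj, ← map_pow, Q.z_pow, map_one]
  · rw [mem_bot] at hy ⊢; rw [hy, mul_one, mul_inv_cancel]
  · rw [mem_bot, commutatorElement_eq_one_iff_commute]; exact Q.z_comm_all i j

theorem K_ext {a b : P} (ha : a ∈ Q.K) (hb : b ∈ Q.K) (h : Q.f a = Q.f b) : a = b :=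
  mul_inv_eq_one.1 (Q.K_inj (mul_mem ha (inv_mem hb)) (by rw [map_mul, map_inv, h, mul_inv_cancel]))

theorem exists_K {c : F} (hc : Val C 0 c) : ∃ a ∈ Q.K, Q.f a = Mo.U 0 c := by
  by_cases h0 : c = 0
  · exact ⟨1, one_mem _, by rw [map_one, h0, Mo.U_zero]⟩
  · obtain ⟨n, hn⟩ := D.exists_skew_pow hc h0 Q.c0_val Q.c0_ne
    exact ⟨Q.z n, subset_closure ⟨n, rfl⟩, by rw [Q.f_z, hn]⟩

theorem map_K : Q.K.map Q.f = Mo.ZU := by
  refine le_antisymm ?_ ?_
  · rw [map_le_iff_le_comap]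
    refine (closure_le _).2 ?_
    rintro _ ⟨n, rfl⟩
    exact ⟨_, D.val_cent Q.c0_val n, Q.f_z n⟩
  · rintro _ ⟨c, hc, rfl⟩
    obtain ⟨a, ha, e⟩ := Q.exists_K hc
    exact ⟨a, ha, e⟩

theorem f_cj_cent {a : P} {c : F} (hc : Val C 0 c) (ha : Q.f a = Mo.U 0 c) (n : ℕ) :
    Q.f (cj Q.h a n) = Mo.U 0 (D.nu ^ n * c) := by
  rw [Q.f_cj_U hc ha, mul_zero]

/-- One step of the propagation of commutation of `u` with the centre. -/
theorem u_step (ht : ∃ i, cj Q.h Q.u i * (Q.u * cj Q.h Q.u (C.q + 1))⁻¹ ∈ Q.K) {c : F}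
    (hc : Val C 0 c) {a : ℕ → P} (hK : ∀ j, a j ∈ Q.K)
    (hf : ∀ j, Q.f (a j) = Mo.U 0 (D.nu ^ j * c)) (hu : ∀ j < 4, Commute Q.u (a j)) :
    Commute Q.u (a 4) := by
  obtain ⟨i, hi⟩ := ht
  set u' := Q.x (C.q + 1) with hu'
  obtain ⟨κ, hκ⟩ : ∃ κ, κ = cj Q.h Q.u i * (Q.u * u')⁻¹ := ⟨_, rfl⟩
  rw [← hκ] at hi
  have hb : cj Q.h Q.u i = κ * (Q.u * u') := by rw [hκ, inv_mul_cancel_right]
  -- the norm of the multiplier
  obtain ⟨c', hc', hκ'⟩ : Q.f κ ∈ Mo.ZU := Q.map_K ▸ mem_map_of_mem _ hi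
  have hv1 : Val C 1 D.d1 := D.d1_val
  have hfb : Q.f (κ * (Q.u * u')) = Mo.U (D.mug ^ i) (D.nu ^ i * D.d1) := by
    rw [← hb]; exact Q.f_x i
  rw [map_mul, map_mul, hκ', Q.f_u, hu', Q.f_x,
    Mo.U_mul hv1 (D.val_x _), Mo.U_mul hc' (hv1.mul (D.val_x _)),
    Mo.U_eq_iff (hc'.mul (hv1.mul (D.val_x _))) (D.val_x i)] at hfb
  have hw : D.nu ^ i = (1 + D.nu) ^ 2 := by
    have h1 : D.mug ^ i = 1 + D.nu := by
      have h2 : D.mug ^ (C.q + 1) = D.nu := by
        rw [Scal.mug, ← mu_pow, ← D.nu_eq, mu_fixed D.nu_fixed]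
      rw [← hfb.1, h2, zero_add]
    rw [Scal.nu, ← nrm_pow, ← nrm_mu (pow_ne_zero i D.g_ne), mu_pow, ← Scal.mug, h1, nrm, map_add,
      map_one, ← Scal.nu, D.nu_fixed, sq]
  -- shifted commutation
  have hsh : ∀ j < 4, Commute u' (a (j + 2)) := fun j hj => by
    have h1 := Commute.cj_map (hu j hj) Q.h (C.q + 1)
    have e : cj Q.h (a j) (C.q + 1) = a (j + 2) := by
      refine Q.K_ext (cj_mem_of_normalizer Q.h_normK (hK j) _) (hK _) ?_
      rw [Q.f_cj_cent (D.val_cent hc j) (hf j), hf, D.nu_pow_qq]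
      congr 1; ring
    rwa [e] at h1
  -- conjugate `u ↔ a 2`
  have e : cj Q.h (a 2) i = a 2 * a 3 * a 3 * a 4 := by
    refine Q.K_ext (cj_mem_of_normalizer Q.h_normK (hK 2) _)
      (mul_mem (mul_mem (mul_mem (hK 2) (hK 3)) (hK 3)) (hK 4)) ?_
    have hv := D.val_cent hc
    rw [Q.f_cj_cent (hv 2) (hf 2), map_mul, map_mul, map_mul, hf, hf, hf, Mo.U_central (hv 3) (hv 2)]
    have h23 : Val C 0 (D.nu ^ 2 * c + D.nu ^ 3 * c) := by
      have := (hv 2).mul (hv 3); simpa using this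
    rw [Mo.U_central (hv 3) h23]
    have h233 : Val C 0 (D.nu ^ 2 * c + D.nu ^ 3 * c + D.nu ^ 3 * c) := by
      have := h23.mul (hv 3); simpa using this
    rw [Mo.U_central (hv 4) h233, hw]
    congr 1; ring
  have h1 : Commute (κ * (Q.u * u')) (a 2 * a 3 * a 3 * a 4) := by
    rw [← hb, ← e]; exact Commute.cj_map (hu 2 (by norm_num)) Q.h i
  have h2 : Commute (Q.u * u') (a 2 * a 3 * a 3 * a 4) := by
    have hk : Commute κ (a 2 * a 3 * a 3 * a 4) :=
      Q.K_comm hi (mul_mem (mul_mem (mul_mem (hK 2) (hK 3)) (hK 3)) (hK 4))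
    have := hk.inv_left.mul_left h1
    rwa [inv_mul_cancel_left] at this
  have h22 : Commute (Q.u * u') (a 2) := (hu 2 (by norm_num)).mul_left (hsh 0 (by norm_num))
  have h23 : Commute (Q.u * u') (a 3) := (hu 3 (by norm_num)).mul_left (hsh 1 (by norm_num))
  have h4 : Commute (Q.u * u') (a 4) := by
    have := ((h22.mul_right h23).mul_right h23).inv_right.mul_right h2
    rwa [inv_mul_cancel_left] at this
  have := h4.mul_left (hsh 2 (by norm_num)).inv_left
  rwa [mul_inv_cancel_right] at this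

theorem u_commute_z : ∀ n, Commute Q.u (Q.z n) := by
  rcases Q.tel with ⟨-, ht, -⟩ | ⟨hs, -⟩
  swap
  · intro n
    have h2 : Commute Q.u (zed Q.u Q.h) := by
      have h1 := Q.u_z 2 (by norm_num)
      have e : 2 + (D.m - 2) = 0 + 1 * D.m := by
        have : 2 ≤ D.m := by
          have := D.three_le
          show 2 ≤ C.q ^ 2 - 1
          nlinarith [Nat.sub_add_cancel (show 1 ≤ C.q ^ 2 by nlinarith)]
        omega
      rwa [e, Q.cj_period, cj_zero] at h1
    obtain ⟨c, hc⟩ := hs n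
    rw [show Q.z n = zed Q.u Q.h ^ c from hc.symm]
    exact h2.zpow_right c
  set b := D.m - 2 with hb
  suffices h : ∀ n, Commute Q.u (Q.z (n + b)) by
    intro n
    have e : n + D.m * 1 = n + 2 + b := by
      have : 2 ≤ D.m := by
        have := D.three_le
        show 2 ≤ C.q ^ 2 - 1
        nlinarith [Nat.sub_add_cancel (show 1 ≤ C.q ^ 2 by nlinarith)]
      omega
    have h1 := h (n + 2)
    rw [← e, mul_comm] at h1
    simp only [z] at h1 ⊢
    rwa [Q.cj_period] at h1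
  intro n
  induction n using Nat.strong_induction_on with
  | _ n ih =>
    by_cases hn : n < 4
    · exact Q.u_z n hn
    obtain ⟨k, rfl⟩ : ∃ k, n = 4 + k := ⟨n - 4, by omega⟩
    have := Q.u_step ht (a := fun j => Q.z (j + k + b)) (D.val_cent Q.c0_val (k + b))
      (fun j => subset_closure ⟨_, rfl⟩) (fun j => by
        rw [Q.f_z]; congr 1; rw [add_assoc, pow_add, mul_assoc])
      (fun j hj => ih (j + k) (by omega))
    exact this

theorem commute_K {n : ℕ} {a : P} (ha : a ∈ Q.K) : Commute (Q.x n) a := by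
  induction ha using closure_induction with
  | mem a ha =>
    obtain ⟨j, rfl⟩ := ha
    have h1 := Commute.cj_map (Q.u_commute_z (j + n * (D.m - 1))) Q.h n
    rw [cj_cj] at h1
    have e : n + (j + n * (D.m - 1)) = j + n * D.m := by
      obtain ⟨r, hr⟩ : ∃ r, D.m = r + 1 := ⟨D.m - 1, by have := D.m_pos; omega⟩
      rw [hr, Nat.add_sub_cancel]; ring
    rwa [e, Q.cj_period] at h1
  | one => exact Commute.one_right _
  | mul b c _ _ h1 h2 => exact h1.mul_right h2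
  | inv b _ h1 => exact h1.inv_right

theorem x_normK (n : ℕ) : Q.x n ∈ normalizer (Q.K : Set P) :=
  mem_normalizer_iff.2 fun a => by
    constructor
    · intro ha; rwa [(Q.commute_K ha).eq, mul_inv_cancel_right]
    · intro ha
      have h := Q.commute_K (n := n) ha
      have e : a = Q.x n * a * (Q.x n)⁻¹ := by
        rw [Commute, SemiconjBy] at h
        have h2 : Q.x n * (Q.x n * a * (Q.x n)⁻¹) = Q.x n * a := by rw [h, inv_mul_cancel_right]
        exact (mul_left_cancel h2).symm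
      rwa [e]

theorem x_comm (a b : ℕ) : ⁅Q.x a, Q.x b⁆ ∈ Q.K := by
  have h0 : ∀ k, ⁅Q.u, Q.x k⁆ ∈ Q.K := by
    intro k
    rcases Q.tel with ⟨-, ⟨i, hi⟩, c1, l, i', hi', c2, c3⟩ | ⟨-, hs⟩
    swap
    · suffices hle : ∀ y ∈ chain Q.x Q.K 2, y ∈ normalizer (Q.K : Set P) ∧ ⁅Q.u, y⁆ ∈ Q.K from
        (hle _ (hs k)).2
      have hu0 : ∀ a ∈ Q.K, Commute Q.u a := fun a ha => by simpa [cj_zero] using Q.commute_K (n := 0) ha
      have hun : Q.u ∈ normalizer (Q.K : Set P) := by simpa [cj_zero] using Q.x_normK 0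
      let S : Subgroup P :=
        { carrier := {y | y ∈ normalizer (Q.K : Set P) ∧ ⁅Q.u, y⁆ ∈ Q.K}
          one_mem' := ⟨one_mem _, by simp [commutatorElement_def]⟩
          mul_mem' := by
            rintro a b ⟨ha, ha'⟩ ⟨hb, hb'⟩
            refine ⟨mul_mem ha hb, ?_⟩
            rw [show ⁅Q.u, a * b⁆ = ⁅Q.u, a⁆ * (a * ⁅Q.u, b⁆ * a⁻¹) by
              simp [commutatorElement_def, mul_assoc]]
            exact mul_mem ha' ((mem_normalizer_iff.1 ha _).1 hb')
          inv_mem' := by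
            rintro a ⟨ha, ha'⟩
            refine ⟨inv_mem ha, ?_⟩
            rw [show ⁅Q.u, a⁻¹⁆ = a⁻¹ * ⁅Q.u, a⁆⁻¹ * a by simp [commutatorElement_def, mul_assoc]]
            exact (mem_normalizer_iff''.1 ha _).1 (inv_mem ha') }
      refine fun y hy => (chain_le (A := S) (fun i hi => ⟨Q.x_normK i, ?_⟩)
        (fun a ha => ⟨le_normalizer ha, ?_⟩)) hy
      · interval_cases i
        · rw [show Q.x 0 = Q.u from cj_zero _ _, commutatorElement_self]; exact one_mem _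
        · exact subset_closure ⟨0, cj_zero _ _⟩
      · rw [commutatorElement_eq_one_iff_commute.2 (hu0 a ha)]; exact one_mem _
    have hu : Q.u ∈ normalizer (Q.K : Set P) := by simpa [cj_zero] using Q.x_normK 0
    have h1 := commutator_mem_grid Q.h_normK hu hi hi' c1 c2 c3 (k * l * (D.m - 1)) k
    have e : k * l * (D.m - 1) * (C.q + 1) + k * (1 + l * (C.q + 1)) =
        k + k * l * (C.q + 1) * D.m := by
      obtain ⟨r, hr⟩ : ∃ r, D.m = r + 1 := ⟨D.m - 1, by have := D.m_pos; omega⟩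
      rw [hr, Nat.add_sub_cancel]; ring
    rw [e] at h1
    have := Q.cj_period Q.u k (k * l * (C.q + 1))
    rw [cj] at this
    rwa [this] at h1
  have h1 := cj_mem_of_normalizer Q.h_normK (h0 (b + a * (D.m - 1))) a
  rw [cj, map_commutatorElement, ← cj, ← cj, cj_cj] at h1
  have e : a + (b + a * (D.m - 1)) = b + a * D.m := by
    obtain ⟨r, hr⟩ : ∃ r, D.m = r + 1 := ⟨D.m - 1, by have := D.m_pos; omega⟩
    rw [hr, Nat.add_sub_cancel]; ring
  rwa [e, Q.cj_period] at h1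

theorem W_le_chain {k : ℕ} (hk : Q.x k ∈ chain Q.x Q.K k) : Q.W ≤ chain Q.x Q.K k :=
  sup_le ((closure_le _).2 <| by
    rintro _ ⟨n, rfl⟩
    exact mem_chain_of_dep (MulAut.conj Q.h).toMonoidHom (fun i => cj_succ _ _ i)
      (fun y hy => (mem_normalizer_iff.1 Q.h_normK y).1 hy) hk n) (le_chain _ _ _)

theorem W_inj {w : P} (hw : w ∈ Q.W) (h : Q.f w = 1) : w = 1 := by
  obtain ⟨k, hk, hmin⟩ := Q.u_dep
  refine Q.K_inj (mem_of_map_mem Q.p_prime (fun i => ?_) (fun i y hy => ?_) Q.x_comm hmin w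
    (Q.W_le_chain hk hw) (by rw [h]; exact one_mem _)) h
  · show MulAut.conj (Q.h ^ i) Q.u ^ ringChar F ∈ Q.K
    rw [← map_pow]
    exact cj_mem_of_normalizer Q.h_normK Q.u_pow i
  · rwa [(Q.commute_K hy).eq, mul_inv_cancel_right]

theorem W_ext {a b : P} (ha : a ∈ Q.W) (hb : b ∈ Q.W) (h : Q.f a = Q.f b) : a = b :=
  mul_inv_eq_one.1 (Q.W_inj (mul_mem ha (inv_mem hb)) (by rw [map_mul, map_inv, h, mul_inv_cancel]))

theorem map_W_le : Q.W.map Q.f ≤ Mo.UU := by
  rw [map_le_iff_le_comap]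
  refine sup_le ((closure_le _).2 ?_) (fun a ha => Mo.ZU_le (Q.map_K ▸ mem_map_of_mem _ ha))
  rintro _ ⟨n, rfl⟩
  exact ⟨_, _, D.val_x n, Q.f_x n⟩

theorem exists_W {s d : F} (h : Val C s d) : ∃ w ∈ Q.W, Q.f w = Mo.U s d := by
  let A : AddSubgroup F :=
    { carrier := {s | ∃ w ∈ Q.W, ∃ d, Val C s d ∧ Q.f w = Mo.U s d}
      zero_mem' := ⟨1, one_mem _, 0, Val.zero, by rw [map_one, Mo.U_zero]⟩
      add_mem' := by
        rintro a b ⟨w, hw, d, hd, e⟩ ⟨w', hw', d', hd', e'⟩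
        exact ⟨w * w', mul_mem hw hw', _, hd.mul hd', by rw [map_mul, e, e', Mo.U_mul hd hd']⟩
      neg_mem' := by
        rintro a ⟨w, hw, d, hd, e⟩
        exact ⟨w⁻¹, inv_mem hw, _, hd.inv, by rw [map_inv, e, Mo.U_inv hd]⟩ }
  obtain ⟨w, hw, d', hd', e⟩ : s ∈ A := D.span_mug (A := A)
    (fun n => ⟨Q.x n, mem_sup_left (subset_closure ⟨n, rfl⟩), _, D.val_x n, Q.f_x n⟩) s
  have hc : Val C 0 (d - d') := by
    rw [val_zero_iff, map_sub]; unfold Val at h hd'; linear_combination h - hd'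
  obtain ⟨a, ha, ea⟩ := Q.exists_K hc
  exact ⟨w * a, mul_mem hw (mem_sup_right ha), by
    rw [map_mul, e, ea, Mo.U_central hc hd', add_sub_cancel]⟩

end Pres

end CfsgLib.SUThreePresentation
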