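import Cfsg.Agent.SUThreePresentation.Borel

/-!
# The double coset of the involution and the isomorphism

Four rank one relations spread over all of the root group, so `P = B ∪ B s B` and `P ≃* G`.
-/

set_option autoImplicit false

namespace CfsgLib.SUThreePresentation

open CfsgLib.RepBounds.Unit Subgroup

variable {F : Type*} [Field F] [Fintype F] {C : ConjField F} {G : Type*} [Group G]
  {Mo : Model C G} {D : Scal C} {P : Type*} [Group P]

theorem split_mul {s : P} (hs : s * s = 1) (a b : P) : s * (a * b) * s = s * a * s * (s * b * s) := by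
  rw [show s * a * s * (s * b * s) = s * a * (s * s) * b * s by group, hs]
  group

theorem Model.T_inj {a b : Fˣ} (h : Mo.T a = Mo.T b) : a = b := by
  obtain ⟨-, -, e⟩ := Mo.triv Val.zero (a * b⁻¹)
    (by rw [Mo.U_zero, one_mul, map_mul, map_inv, h, mul_inv_cancel])
  exact mul_inv_eq_one.1 e

namespace Scal

variable (D)

/-- `d₀ + σ d₀` for the distinguished parameter `d₀ = a₀ g`. -/
theorem sigma_d0 : C.σ (D.a0 * D.g) = -(C.σ (D.g : F) / D.g) * (D.a0 * D.g) := by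
  have h := val_zero_iff.1 D.a0_val
  have hg := D.g_ne
  rw [map_mul, h]
  field_simp

theorem zeta_ne_one : C.σ (D.g : F) / D.g ≠ 1 := by
  intro h
  rw [div_eq_one_iff_eq D.g_ne] at h
  apply D.mug_not_fixed
  rw [mug, mu_fixed h, h]

theorem d0_trace_ne : D.a0 * D.g + C.σ (D.a0 * D.g) ≠ 0 := by
  rw [D.sigma_d0]
  intro h
  have h2 : (D.a0 * D.g) * (1 - C.σ (D.g : F) / D.g) = 0 := by linear_combination h
  rcases mul_eq_zero.1 h2 with h3 | h3
  · exact mul_ne_zero D.a0_ne D.g_ne h3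
  · exact D.zeta_ne_one (sub_eq_zero.1 h3).symm

theorem lift_val (s : F) : Val C s (D.lift s) := by
  have h := D.d0_trace_ne
  unfold Val
  rw [lift]
  generalize D.a0 * (D.g : F) = d0 at h ⊢
  rw [map_mul, map_div₀, map_neg, nrm_fixed, map_add, C.invol, nrm, add_comm (C.σ d0) d0,
    div_mul_eq_mul_div, div_mul_eq_mul_div, ← add_div, div_add' _ _ _ h, div_eq_zero_iff]
  left
  ring

theorem sigma_lift (s : F) : C.σ (D.lift s) = -(C.σ (D.g : F) / D.g) * D.lift s := by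
  have h := D.sigma_d0
  rw [lift]
  generalize D.a0 * (D.g : F) = d0 at h ⊢
  rw [map_mul, map_div₀, map_neg, nrm_fixed, map_add, C.invol, add_comm (C.σ d0) d0, h]
  ring

theorem lift_unique {s d : F} (h : Val C s d) (hd : C.σ d = -(C.σ (D.g : F) / D.g) * d) :
    d = D.lift s := by
  have h1 := D.lift_val s
  have h2 := D.sigma_lift s
  unfold Val at h h1
  have e : (d - D.lift s) * (1 - C.σ (D.g : F) / D.g) = 0 := by linear_combination h - h1 - hd + h2
  rcases mul_eq_zero.1 e with h3 | h3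
  · exact sub_eq_zero.1 h3
  · exact absurd (sub_eq_zero.1 h3).symm D.zeta_ne_one

theorem lift_smul {l : F} (hl : l ≠ 0) (s : F) : D.lift (mu C l * s) = nrm C l * D.lift s := by
  refine (D.lift_unique ((D.lift_val s).smul hl) ?_).symm
  rw [map_mul, nrm_fixed, D.sigma_lift]; ring

theorem lift_ne {s : F} (hs : s ≠ 0) : D.lift s ≠ 0 := fun h => by
  have h1 := D.lift_val s
  rw [h] at h1
  exact hs h1.fst_eq_zero

theorem exists_ratio {d : F} (hd : d ≠ 0) :
    ∃ j : ℕ, C.σ d = -(C.σ (D.g : F) / D.g) ^ j * d := by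
  obtain ⟨j, hj⟩ := D.exists_pow_val (div_ne_zero hd D.a0_ne)
  refine ⟨j, ?_⟩
  have e : d = D.a0 * (D.g : F) ^ j := by rw [hj, mul_div_cancel₀ _ D.a0_ne]
  have hg := D.g_ne
  rw [e, map_mul, map_pow, val_zero_iff.1 D.a0_val, div_pow]
  field_simp

end Scal

namespace Pres

variable (Q : Pres Mo D P)

/-- The torus. -/
noncomputable def tau : Fˣ →* P :=
  monoidHomOfForallMemZpowers (g := D.g) (g' := Q.h) D.gen
    (by rw [D.orderOf_g]; exact orderOf_dvd_of_pow_eq_one Q.h_pow)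

theorem tau_g : Q.tau D.g = Q.h := monoidHomOfForallMemZpowers_apply_gen _ _

theorem tau_pow (n : ℕ) : Q.tau (D.g ^ n) = Q.h ^ n := by rw [map_pow, tau_g]

theorem f_tau (l : Fˣ) : Q.f (Q.tau l) = Mo.T l := by
  obtain ⟨n, rfl⟩ := D.exists_pow l
  rw [tau_pow, map_pow, Q.f_h, map_pow]

theorem tau_normW (l : Fˣ) : Q.tau l ∈ normalizer (Q.W : Set P) := by
  obtain ⟨n, rfl⟩ := D.exists_pow l
  rw [tau_pow]
  exact pow_mem Q.h_normW n

open Classical in
/-- The root elements. -/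
noncomputable def Uh (a d : F) : P := if h : Val C a d then (Q.exists_W h).choose else 1

theorem Uh_mem {a d : F} (h : Val C a d) : Q.Uh a d ∈ Q.W := by
  rw [Uh, dif_pos h]; exact (Q.exists_W h).choose_spec.1

theorem f_Uh {a d : F} (h : Val C a d) : Q.f (Q.Uh a d) = Mo.U a d := by
  rw [Uh, dif_pos h]; exact (Q.exists_W h).choose_spec.2

theorem eq_Uh {w : P} (hw : w ∈ Q.W) {a d : F} (h : Val C a d) (e : Q.f w = Mo.U a d) :
    w = Q.Uh a d := Q.W_ext hw (Q.Uh_mem h) (by rw [Q.f_Uh h, e])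

theorem Uh_mul {a d a' d' : F} (h : Val C a d) (h' : Val C a' d') :
    Q.Uh a d * Q.Uh a' d' = Q.Uh (a + a') (d + d' - C.σ a * a') :=
  Q.eq_Uh (mul_mem (Q.Uh_mem h) (Q.Uh_mem h')) (h.mul h')
    (by rw [map_mul, Q.f_Uh h, Q.f_Uh h', Mo.U_mul h h'])

theorem Uh_zero : Q.Uh 0 0 = 1 := (Q.eq_Uh (one_mem _) Val.zero (by rw [map_one, Mo.U_zero])).symm

theorem tau_Uh (l : Fˣ) {a d : F} (h : Val C a d) :
    Q.tau l * Q.Uh a d * (Q.tau l)⁻¹ = Q.Uh (mu C l * a) (nrm C l * d) :=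
  Q.eq_Uh ((mem_normalizer_iff.1 (Q.tau_normW l) _).1 (Q.Uh_mem h)) (h.smul l.ne_zero)
    (by rw [map_mul, map_mul, map_inv, Q.f_tau, Q.f_Uh h, Mo.T_conj l h])

theorem s_tau (l : Fˣ) : Q.s * Q.tau l * Q.s = Q.tau (iota C l) := by
  obtain ⟨i, hi⟩ := Q.s_h
  have e : iota C D.g = D.g ^ i := Model.T_inj (Mo := Mo) (by
    rw [← Mo.S_T, map_pow, ← Q.f_h, ← map_pow, ← hi, map_mul, map_mul, Q.f_s])
  obtain ⟨n, rfl⟩ := D.exists_pow l
  rw [tau_pow, map_pow (iota C), e, ← pow_mul, tau_pow, pow_mul, ← hi]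
  induction n with
  | zero => simp [Q.s_sq]
  | succ n ih =>
    rw [pow_succ, pow_succ, ← ih]
    calc Q.s * (Q.h ^ n * Q.h) * Q.s = Q.s * Q.h ^ n * (Q.s * Q.s) * Q.h * Q.s := by
          rw [Q.s_sq]; group
      _ = Q.s * Q.h ^ n * Q.s * (Q.s * Q.h * Q.s) := by group

/-- The Borel cell. -/
def InB (y : P) : Prop := ∃ a d, Val C a d ∧ ∃ l : Fˣ, y = Q.Uh a d * Q.tau l

/-- The big cell. -/
def InD (y : P) : Prop := ∃ b b', Q.InB b ∧ Q.InB b' ∧ y = b * Q.s * b'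

theorem inB_tau (l : Fˣ) : Q.InB (Q.tau l) :=
  ⟨0, 0, Val.zero, l, by rw [Uh_zero, one_mul]⟩

theorem inB_Uh {a d : F} (h : Val C a d) : Q.InB (Q.Uh a d) :=
  ⟨a, d, h, 1, by rw [map_one, mul_one]⟩

theorem inB_one : Q.InB 1 := by simpa using Q.inB_tau 1

variable {Q}

theorem InB.mul {b b' : P} (hb : Q.InB b) (hb' : Q.InB b') : Q.InB (b * b') := by
  obtain ⟨a, d, h, l, rfl⟩ := hb
  obtain ⟨a', d', h', l', rfl⟩ := hb'
  refine ⟨_, _, h.mul (h'.smul l.ne_zero), l * l', ?_⟩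
  rw [← Q.Uh_mul h (h'.smul l.ne_zero), ← Q.tau_Uh l h', map_mul]
  group

theorem InD.mul_left {b y : P} (hb : Q.InB b) (hy : Q.InD y) : Q.InD (b * y) := by
  obtain ⟨b1, b2, h1, h2, rfl⟩ := hy
  exact ⟨b * b1, b2, hb.mul h1, h2, by group⟩

theorem InD.mul_right {b y : P} (hy : Q.InD y) (hb : Q.InB b) : Q.InD (y * b) := by
  obtain ⟨b1, b2, h1, h2, rfl⟩ := hy
  exact ⟨b1, b2 * b, h1, h2.mul hb, by group⟩

variable (Q)

/-- The exact rank one relation. -/
def Exact (a d : F) : Prop := ∀ hd : d ≠ 0, Q.s * Q.Uh a d * Q.s =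
  Q.Uh (-a / d) (1 / d) * Q.tau (iota C (Units.mk0 d hd)) * Q.s * Q.Uh (-a / C.σ d) (1 / d)

theorem exact_inD {a d : F} (h : Val C a d) (hd : d ≠ 0) (he : Q.Exact a d) :
    Q.InD (Q.s * Q.Uh a d * Q.s) := by
  rw [he hd]
  exact ⟨_, _, (Q.inB_Uh (h.left hd)).mul (Q.inB_tau _), Q.inB_Uh (h.right hd), rfl⟩

theorem base_val (b : Fin 4) : Val C (D.base b).1 (D.base b).2 := by
  fin_cases b <;> simp [Scal.base, D.a0_val, D.lift_val]

theorem exact_base (b : Fin 4) : Q.Exact (D.base b).1 (D.base b).2 := by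
  intro hd
  have hv := base_val (D := D) b
  obtain ⟨w, hw, wl, hwl, wr, hwr, i, ew, el, er, ei, e⟩ := Q.rank b hd
  rw [← Q.eq_Uh hw hv ew, ← Q.eq_Uh hwl (hv.left hd) el, ← Q.eq_Uh hwr (hv.right hd) er, ← ei,
    Q.tau_pow]
  exact e

theorem exact_smul (l : Fˣ) {a d : F} (h : Val C a d) (hd : d ≠ 0) (he : Q.Exact a d) :
    Q.Exact (mu C l * a) (nrm C l * d) := by
  intro hd'
  have hl := l.ne_zero
  have hl' := sigma_ne (C := C) hl
  set l' := iota C l with hl'd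
  have einv : Q.s * (Q.tau l)⁻¹ * Q.s = (Q.tau l')⁻¹ := by
    rw [← map_inv, Q.s_tau, map_inv, map_inv, hl'd]
  have e1 : Q.s * Q.Uh (mu C l * a) (nrm C l * d) * Q.s =
      Q.tau l' * (Q.s * Q.Uh a d * Q.s) * (Q.tau l')⁻¹ := by
    rw [← Q.tau_Uh l h, split_mul Q.s_sq, split_mul Q.s_sq, Q.s_tau, einv]
  rw [e1, he hd]
  set v := iota C (Units.mk0 d hd)
  -- move the torus across `s`
  have e2 : Q.s * (Q.tau l')⁻¹ = Q.tau (iota C l'⁻¹) * Q.s := by
    rw [← Q.s_tau l'⁻¹, map_inv, mul_assoc, Q.s_sq, mul_one]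
  have hL := h.left hd
  have hR := h.right hd
  have e3 : Q.tau l' * (Q.Uh (-a / d) (1 / d) * Q.tau v * Q.s * Q.Uh (-a / C.σ d) (1 / d)) *
      (Q.tau l')⁻¹ = (Q.tau l' * Q.Uh (-a / d) (1 / d) * (Q.tau l')⁻¹) * Q.tau (l' * v * iota C l'⁻¹) *
        Q.s * (Q.tau l' * Q.Uh (-a / C.σ d) (1 / d) * (Q.tau l')⁻¹) := by
    rw [map_mul, map_mul]
    calc Q.tau l' * (Q.Uh (-a / d) (1 / d) * Q.tau v * Q.s * Q.Uh (-a / C.σ d) (1 / d)) *
          (Q.tau l')⁻¹
        = Q.tau l' * Q.Uh (-a / d) (1 / d) * Q.tau v * (Q.s * (Q.tau l')⁻¹) *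
            (Q.tau l' * Q.Uh (-a / C.σ d) (1 / d) * (Q.tau l')⁻¹) := by group
      _ = _ := by rw [e2]; group
  have hv' : l' * v * iota C l'⁻¹ = iota C (Units.mk0 (nrm C (l : F) * d) hd') := by
    refine Units.ext ?_
    simp only [Units.val_mul, hl'd, v, coe_iota, Units.val_mk0, Units.val_inv_eq_inv_val, inv_inv,
      C.invol, nrm, map_mul]
    field_simp
  rw [e3, Q.tau_Uh l' hL, Q.tau_Uh l' hR, hv']
  congr 3
  all_goals
    simp only [hl'd, coe_iota, mu, nrm, map_div₀, map_mul, map_inv₀, C.invol]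
    field_simp

theorem exact_center {c : F} (hc : Val C 0 c) : Q.Exact 0 c := by
  intro hc0
  obtain ⟨n, hn⟩ := D.exists_skew_pow hc hc0 D.a0_val D.a0_ne
  have h := Q.exact_smul (D.g ^ n) D.a0_val D.a0_ne (by simpa [Scal.base] using Q.exact_base 0)
  rw [Units.val_pow_eq_pow_val, nrm_pow, mul_zero, ← Scal.nu, hn] at h
  exact h hc0

theorem exact_lift {a : F} (ha : a ≠ 0) : Q.Exact a (D.lift a) := by
  obtain ⟨n, hn⟩ := D.exists_pow_val ha
  obtain ⟨i, j, hi, rfl⟩ : ∃ i j, i < 3 ∧ n = 3 * j + i :=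
    ⟨n % 3, n / 3, Nat.mod_lt _ (by norm_num), (Nat.div_add_mod n 3).symm⟩
  set l : Fˣ := D.g ^ ((2 * C.q + 1) * j) with hl
  have hμ : mu C (l : F) = (D.g : F) ^ (3 * j) := by
    rw [hl, Units.val_pow_eq_pow_val, pow_mul, mu_pow, ← D.g_cube, ← pow_mul]
  have hb : ∀ i < 3, Q.Exact ((D.g : F) ^ i) (D.lift ((D.g : F) ^ i)) := by
    intro i hi
    interval_cases i
    · simpa [Scal.base] using Q.exact_base 1
    · simpa [Scal.base] using Q.exact_base 2
    · simpa [Scal.base] using Q.exact_base 3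
  have h := Q.exact_smul l (D.lift_val _) (D.lift_ne (pow_ne_zero i D.g_ne)) (hb i hi)
  rw [← D.lift_smul l.ne_zero, hμ, ← pow_add, hn] at h
  exact h

/-- The spreading step: every element with nonzero first parameter lands in the big cell. -/
theorem cell : ∀ (j : ℕ) {a d : F}, Val C a d → a ≠ 0 → C.σ d = -(C.σ (D.g : F) / D.g) ^ j * d →
    Q.InD (Q.s * Q.Uh a d * Q.s) := by
  intro j
  induction j with
  | zero =>
    intro a d h ha hd
    exfalso
    rw [pow_zero] at hd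
    unfold Val at h
    have h1 : a * C.σ a = 0 := by linear_combination h - hd
    exact mul_ne_zero ha (sigma_ne ha) h1
  | succ j ih =>
    intro a d h ha hd
    set d0 := D.lift a with hd0
    have h0 : Val C a d0 := D.lift_val a
    have hd00 : d0 ≠ 0 := D.lift_ne ha
    set c := d - d0 with hc
    have hcv : Val C 0 c := by
      rw [val_zero_iff, hc, map_sub]; unfold Val at h h0; linear_combination h - h0
    by_cases hc0 : c = 0
    · rw [show d = d0 by linear_combination hc0 - hc]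
      exact Q.exact_inD h0 hd00 (Q.exact_lift ha)
    have e : Q.Uh a d = Q.Uh a d0 * Q.Uh 0 c := by
      rw [Q.Uh_mul h0 hcv, add_zero, mul_zero, sub_zero, hc, add_sub_cancel]
    have e2 : Q.s * Q.Uh a d * Q.s = (Q.s * Q.Uh a d0 * Q.s) * (Q.s * Q.Uh 0 c * Q.s) := by
      rw [e, split_mul Q.s_sq]
    rw [e2, Q.exact_lift ha hd00, Q.exact_center hcv hc0]
    have hR := h0.right hd00
    have hL := hcv.left hc0
    set a3 := -a / C.σ d0 with ha3
    set d3 := 1 / d0 + 1 / c with hd3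
    have hm : Q.Uh a3 (1 / d0) * Q.Uh (-0 / c) (1 / c) = Q.Uh a3 d3 := by
      rw [Q.Uh_mul hR hL, neg_zero, zero_div, add_zero, mul_zero, sub_zero]
    have hv3 : Val C a3 d3 := by
      have := hR.mul hL
      simpa [hd3] using this
    have ha30 : a3 ≠ 0 := div_ne_zero (neg_ne_zero.2 ha) (sigma_ne hd00)
    have hr : C.σ d3 = -(C.σ (D.g : F) / D.g) ^ j * d3 := by
      have h1 := D.sigma_lift a
      rw [← hd0] at h1
      have h2 := val_zero_iff.1 hcv
      have hz : C.σ (D.g : F) / D.g ≠ 0 := div_ne_zero (sigma_ne D.g_ne) D.g_ne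
      set z := C.σ (D.g : F) / D.g
      have hd' : C.σ d0 + C.σ c = -z ^ (j + 1) * (d0 + c) := by
        rw [← map_add, hc, add_sub_cancel]; exact hd
      rw [h1, h2, pow_succ] at hd'
      rw [hd3, map_add, map_div₀, map_div₀, map_one, h1, h2]
      field_simp
      linear_combination hd'
    have h3 : Q.InD (Q.s * Q.Uh a3 d3 * Q.s) := ih hv3 ha30 hr
    set v0 := iota C (Units.mk0 d0 hd00)
    set v := iota C (Units.mk0 c hc0)
    have e3 : Q.Uh (-a / d0) (1 / d0) * Q.tau v0 * Q.s * Q.Uh a3 (1 / d0) *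
        (Q.Uh (-0 / c) (1 / c) * Q.tau v * Q.s * Q.Uh (-0 / C.σ c) (1 / c)) =
        (Q.Uh (-a / d0) (1 / d0) * Q.tau v0) *
          ((Q.s * Q.Uh a3 d3 * Q.s) * Q.tau (iota C v)) * Q.Uh (-0 / C.σ c) (1 / c) := by
      rw [← Q.s_tau v, ← split_mul Q.s_sq, ← hm]
      group
    rw [e3]
    exact ((h3.mul_right (Q.inB_tau _)).mul_left ((Q.inB_Uh (h0.left hd00)).mul (Q.inB_tau _))).mul_right
      (Q.inB_Uh (hcv.right hc0))

theorem s_Uh_s {a d : F} (h : Val C a d) :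
    Q.InB (Q.s * Q.Uh a d * Q.s) ∨ Q.InD (Q.s * Q.Uh a d * Q.s) := by
  by_cases hd : d = 0
  · subst hd
    left
    rw [h.fst_eq_zero, Uh_zero, mul_one, Q.s_sq]
    exact Q.inB_one
  · right
    by_cases ha : a = 0
    · subst ha; exact Q.exact_inD h hd (Q.exact_center h)
    · obtain ⟨j, hj⟩ := D.exists_ratio hd
      exact Q.cell j h ha hj

theorem inB_u : Q.InB Q.u :=
  ⟨1, D.d1, D.d1_val, 1, by
    rw [map_one, mul_one]
    refine Q.eq_Uh ?_ D.d1_val Q.f_u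
    show Q.u ∈ closure (Set.range (cj Q.h Q.u)) ⊔ kGrp Q.u Q.h
    exact mem_sup_left (subset_closure ⟨0, cj_zero _ _⟩)⟩

theorem inB_h : Q.InB Q.h := Q.tau_g ▸ Q.inB_tau D.g

theorem InB.inv {b : P} (hb : Q.InB b) : Q.InB b⁻¹ := by
  obtain ⟨a, d, h, l, rfl⟩ := hb
  rw [mul_inv_rev, ← map_inv]
  refine (Q.inB_tau _).mul ?_
  have e : (Q.Uh a d)⁻¹ = Q.Uh (-a) (C.σ d) :=
    Q.eq_Uh (inv_mem (Q.Uh_mem h)) h.inv (by rw [map_inv, Q.f_Uh h, Mo.U_inv h])
  rw [e]
  exact Q.inB_Uh h.inv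

theorem all_cells (y : P) : Q.InB y ∨ Q.InD y := by
  have hy : y ∈ closure ({Q.u, Q.h, Q.s} : Set P) := Q.top ▸ mem_top y
  have hB : ∀ b, Q.InB b → ∀ y, Q.InB y ∨ Q.InD y → Q.InB (b * y) ∨ Q.InD (b * y) :=
    fun b hb y hy => hy.imp hb.mul fun h => h.mul_left hb
  have hs : ∀ y, Q.InB y ∨ Q.InD y → Q.InB (Q.s * y) ∨ Q.InD (Q.s * y) := by
    rintro y (hy | ⟨b, b', hb, hb', rfl⟩)
    · exact Or.inr ⟨1, y, Q.inB_one, hy, by rw [one_mul]⟩
    · obtain ⟨a, d, h, l, rfl⟩ := hb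
      have e : Q.s * (Q.Uh a d * Q.tau l * Q.s * b') =
          (Q.s * Q.Uh a d * Q.s) * (Q.tau (iota C l) * b') := by
        rw [← Q.s_tau l]
        conv_rhs => rw [← mul_assoc, ← split_mul Q.s_sq]
        group
      rw [e]
      exact (Q.s_Uh_s h).imp (fun h => h.mul ((Q.inB_tau _).mul hb'))
        fun h => h.mul_right ((Q.inB_tau _).mul hb')
  induction hy using closure_induction_left with
  | one => exact Or.inl Q.inB_one
  | mul_left x hx y _ ih =>
    rcases hx with rfl | rfl | rfl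
    · exact hB _ Q.inB_u y ih
    · exact hB _ Q.inB_h y ih
    · exact hs y ih
  | inv_mul_cancel x hx y _ ih =>
    rcases hx with rfl | rfl | rfl
    · exact hB _ Q.inB_u.inv y ih
    · exact hB _ Q.inB_h.inv y ih
    · rw [show Q.s⁻¹ = Q.s from inv_eq_of_mul_eq_one_right Q.s_sq]
      exact hs y ih

theorem f_bijective : Function.Bijective Q.f := by
  refine ⟨(injective_iff_map_eq_one _).2 fun y hy => ?_, MonoidHom.range_eq_top.1 ?_⟩
  · rcases Q.all_cells y with ⟨a, d, h, l, rfl⟩ | ⟨b, b', hb, hb', rfl⟩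
    · rw [map_mul, Q.f_Uh h, Q.f_tau] at hy
      obtain ⟨rfl, rfl, rfl⟩ := Mo.triv h l hy
      rw [Uh_zero, map_one, mul_one]
    · exfalso
      obtain ⟨a, d, h, l, e⟩ := hb.inv.mul hb'.inv
      refine Mo.S_not h l ?_
      rw [map_mul, map_mul, Q.f_s] at hy
      rw [← Q.f_Uh h, ← Q.f_tau l, ← map_mul, ← e, map_mul, map_inv, map_inv]
      rw [eq_inv_mul_iff_mul_eq]
      exact eq_inv_of_mul_eq_one_left hy
  · refine Mo.gen _ (fun a d h => ⟨Q.Uh a d, Q.f_Uh h⟩) ⟨Q.s, Q.f_s⟩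

/-- A group with the relations is the model. -/
noncomputable def equiv : P ≃* G := MulEquiv.ofBijective Q.f Q.f_bijective

end Pres

end CfsgLib.SUThreePresentation
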