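import Mathlib

/-!
# Group lemmas for short presentations

Telescoping commutation (`x^b = x · x^a` propagates commutation along the powers of `a`), injectivity of a
homomorphism on a group built from a shifted chain of generators of prime exponent modulo a subgroup, and
presentations of central quotients.
-/

set_option autoImplicit false

namespace CfsgLib.SUThreePresentation

open Subgroup
open scoped commutatorElement

variable {P G : Type*} [Group P] [Group G]

theorem conj_comm_apply {a b : P} (hab : Commute a b) (x : P) :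
    MulAut.conj b (MulAut.conj a x) = MulAut.conj a (MulAut.conj b x) := by
  rw [← MulAut.mul_apply, ← MulAut.mul_apply, ← map_mul, ← map_mul, hab.eq]

/-- One step of the telescope. -/
theorem commute_tel_step {a b x y : P} (hab : Commute a b) (hx : MulAut.conj b x = x * MulAut.conj a x)
    (hy : MulAut.conj b y = y * MulAut.conj a y) (h0 : Commute x y)
    (h1 : Commute x (MulAut.conj a y)) : Commute x (MulAut.conj a (MulAut.conj a y)) := by
  have hB : Commute (x * MulAut.conj a x)
      (MulAut.conj a y * MulAut.conj a (MulAut.conj a y)) := by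
    have h := h1.map (MulAut.conj b).toMonoidHom
    simp only [MulEquiv.coe_toMonoidHom] at h
    rwa [hx, conj_comm_apply hab, hy, map_mul] at h
  have hA : Commute (x * MulAut.conj a x) (MulAut.conj a y) :=
    h1.mul_left (by simpa using h0.map (MulAut.conj a).toMonoidHom)
  have hC : Commute (x * MulAut.conj a x) (MulAut.conj a (MulAut.conj a y)) := by
    have h := hA.inv_right.mul_right hB
    rwa [inv_mul_cancel_left] at h
  have hD : Commute (MulAut.conj a x) (MulAut.conj a (MulAut.conj a y)) := by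
    simpa using h1.map (MulAut.conj a).toMonoidHom
  have h := hC.mul_left hD.inv_left
  rwa [mul_inv_cancel_right] at h

theorem commute_tel {a b x y : P} (hab : Commute a b) (hx : MulAut.conj b x = x * MulAut.conj a x)
    (hy : MulAut.conj b y = y * MulAut.conj a y) (h0 : Commute x y)
    (h1 : Commute x (MulAut.conj a y)) (n : ℕ) : Commute x (MulAut.conj (a ^ n) y) := by
  suffices h : Commute x (MulAut.conj (a ^ n) y) ∧ Commute x (MulAut.conj (a ^ (n + 1)) y) from h.1
  induction n with
  | zero => exact ⟨by simpa using h0, by simpa using h1⟩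
  | succ n ih =>
    refine ⟨ih.2, ?_⟩
    have hy' : MulAut.conj b (MulAut.conj (a ^ n) y) =
        MulAut.conj (a ^ n) y * MulAut.conj a (MulAut.conj (a ^ n) y) := by
      rw [conj_comm_apply (hab.pow_left n), hy, map_mul,
        conj_comm_apply (Commute.pow_left (Commute.refl a) n)]
    have h := commute_tel_step hab hx hy' ih.1
      (by rw [← MulAut.mul_apply, ← map_mul, ← pow_succ']; exact ih.2)
    rw [← MulAut.mul_apply, ← MulAut.mul_apply, ← map_mul, ← map_mul, mul_assoc a, ← pow_succ',
      ← pow_succ'] at h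
    exact h

/-- Two telescopes: commutation on the whole grid. -/
theorem commute_grid {h x : P} {j j' i i' : ℕ}
    (hx : MulAut.conj (h ^ i) x = x * MulAut.conj (h ^ j) x)
    (hx' : MulAut.conj (h ^ i') x = x * MulAut.conj (h ^ j') x)
    (c1 : Commute x (MulAut.conj (h ^ j) x)) (c2 : Commute x (MulAut.conj (h ^ j') x))
    (c3 : Commute x (MulAut.conj (h ^ (j + j')) x)) (n l : ℕ) :
    Commute x (MulAut.conj (h ^ (n * j + l * j')) x) := by
  have hp : ∀ r t : ℕ, Commute (h ^ r) (h ^ t) := fun r t => Commute.pow_pow_self h r t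
  have hy : MulAut.conj (h ^ i) (MulAut.conj (h ^ j') x) =
      MulAut.conj (h ^ j') x * MulAut.conj (h ^ j) (MulAut.conj (h ^ j') x) := by
    rw [conj_comm_apply (hp j' i), hx, map_mul, conj_comm_apply (hp j j')]
  have l0 : ∀ n : ℕ, Commute x (MulAut.conj (h ^ (n * j)) x) := fun n => by
    rw [mul_comm, pow_mul]; exact commute_tel (hp j i) hx hx (Commute.refl x) c1 n
  have l1 : ∀ n : ℕ, Commute x (MulAut.conj (h ^ (n * j + j')) x) := fun n => by
    have := commute_tel (hp j i) hx hy c2
      (by rw [← MulAut.mul_apply, ← map_mul, ← pow_add]; exact c3) n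
    rwa [← pow_mul, ← MulAut.mul_apply, ← map_mul, ← pow_add, mul_comm] at this
  have hy' : MulAut.conj (h ^ i') (MulAut.conj (h ^ (n * j)) x) =
      MulAut.conj (h ^ (n * j)) x * MulAut.conj (h ^ j') (MulAut.conj (h ^ (n * j)) x) := by
    rw [conj_comm_apply (hp (n * j) i'), hx', map_mul, conj_comm_apply (hp j' (n * j))]
  have := commute_tel (hp j' i') hx' hy' (l0 n)
    (by rw [← MulAut.mul_apply, ← map_mul, ← pow_add, add_comm]; exact l1 n) l
  rwa [← pow_mul, ← MulAut.mul_apply, ← map_mul, ← pow_add, mul_comm j', add_comm] at this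

/-- The grid modulo a subgroup. -/
theorem commutator_mem_grid {K : Subgroup P} {h x : P} {j j' i i' : ℕ}
    (hhK : h ∈ normalizer (K : Set P)) (hxK : x ∈ normalizer (K : Set P))
    (hx : MulAut.conj (h ^ i) x * (x * MulAut.conj (h ^ j) x)⁻¹ ∈ K)
    (hx' : MulAut.conj (h ^ i') x * (x * MulAut.conj (h ^ j') x)⁻¹ ∈ K)
    (c1 : ⁅x, MulAut.conj (h ^ j) x⁆ ∈ K) (c2 : ⁅x, MulAut.conj (h ^ j') x⁆ ∈ K)
    (c3 : ⁅x, MulAut.conj (h ^ (j + j')) x⁆ ∈ K) (n l : ℕ) :
    ⁅x, MulAut.conj (h ^ (n * j + l * j')) x⁆ ∈ K := by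
  set M := normalizer (K : Set P)
  set π := QuotientGroup.mk' (K.subgroupOf M)
  let x' : M := ⟨x, hxK⟩
  let h' : M := ⟨h, hhK⟩
  have hq : ∀ a b : M, (a : P) * (b : P)⁻¹ ∈ K → π a = π b := fun a b hab => by
    rw [← mul_inv_eq_one, ← map_inv, ← map_mul, QuotientGroup.mk'_apply, QuotientGroup.eq_one_iff,
      mem_subgroupOf]
    simpa using hab
  have hc : ∀ k : ℕ, MulAut.conj (π h' ^ k) (π x') = π (MulAut.conj (h' ^ k) x') := fun k => by
    rw [MulAut.conj_apply, MulAut.conj_apply, map_mul, map_mul, map_inv, map_pow]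
  have hcoe : ∀ k : ℕ, ((MulAut.conj (h' ^ k) x' : M) : P) = MulAut.conj (h ^ k) x := fun k => by
    simp [x', h', MulAut.conj_apply, -map_pow]
  have hcm : ∀ k : ℕ, Commute (π x') (MulAut.conj (π h' ^ k) (π x')) ↔
      ⁅x, MulAut.conj (h ^ k) x⁆ ∈ K := fun k => by
    rw [← commutatorElement_eq_one_iff_commute, hc, ← map_commutatorElement, QuotientGroup.mk'_apply,
      QuotientGroup.eq_one_iff, mem_subgroupOf]
    simp [commutatorElement_def, hcoe, x', h', -map_pow]
  refine (hcm _).1 (commute_grid (h := π h') (i := i) (i' := i') ?_ ?_ ((hcm _).2 c1) ((hcm _).2 c2)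
    ((hcm _).2 c3) n l)
  · rw [hc, hc, ← map_mul]
    exact hq _ _ (by simpa [hcoe, x', -map_pow] using hx)
  · rw [hc, hc, ← map_mul]
    exact hq _ _ (by simpa [hcoe, x', -map_pow] using hx')

theorem mem_normalizer_of_pow_mem {A : Subgroup P} {x : P} {p : ℕ} (hp : 0 < p)
    (hpow : x ^ p ∈ normalizer (A : Set P)) (h : ∀ a ∈ A, x * a * x⁻¹ ∈ A) :
    x ∈ normalizer (A : Set P) := by
  have hn : ∀ (n : ℕ) (a : P), a ∈ A → x ^ n * a * (x ^ n)⁻¹ ∈ A := by
    intro n
    induction n with
    | zero => intro a ha; simpa using ha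
    | succ n ih =>
      intro a ha
      have h2 := h _ (ih a ha)
      rw [pow_succ']
      simpa [mul_assoc] using h2
  refine mem_normalizer_iff.2 fun a => ⟨h a, fun ha => ?_⟩
  refine (mem_normalizer_iff.1 hpow a).2 ?_
  have h2 := hn (p - 1) _ ha
  rw [show x ^ p = x ^ (p - 1) * x by rw [← pow_succ, Nat.sub_add_cancel hp]]
  simpa [mul_assoc] using h2

/-- The chain subgroup. -/
def chain (x : ℕ → P) (K : Subgroup P) (k : ℕ) : Subgroup P := closure (x '' Set.Iio k) ⊔ K

theorem le_chain (x : ℕ → P) (K : Subgroup P) (k : ℕ) : K ≤ chain x K k := le_sup_right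

theorem mem_chain (x : ℕ → P) (K : Subgroup P) {i k : ℕ} (h : i < k) : x i ∈ chain x K k :=
  mem_sup_left (subset_closure ⟨i, h, rfl⟩)

theorem chain_le {x : ℕ → P} {K A : Subgroup P} {k : ℕ} (hx : ∀ i < k, x i ∈ A) (hK : K ≤ A) :
    chain x K k ≤ A :=
  sup_le ((closure_le _).2 (by rintro _ ⟨i, hi, rfl⟩; exact hx i hi)) hK

/-- The dependence propagates along the shift. -/
theorem mem_chain_of_dep {x : ℕ → P} {K : Subgroup P} {k : ℕ} (c : P →* P)
    (hx : ∀ i, c (x i) = x (i + 1)) (hK : ∀ y ∈ K, c y ∈ K) (hk : x k ∈ chain x K k) (i : ℕ) :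
    x i ∈ chain x K k := by
  have hsh : chain x K k ≤ (chain x K k).comap c := chain_le (fun i hi => by
    rw [mem_comap, hx]
    rcases Nat.lt_or_ge (i + 1) k with h | h
    · exact mem_chain x K h
    · rw [show i + 1 = k by omega]; exact hk) (fun y hy => le_chain x K k (hK y hy))
  induction i with
  | zero =>
    rcases Nat.eq_zero_or_pos k with h | h
    · subst h; exact hk
    · exact mem_chain x K h
  | succ i ih => rw [← hx i]; exact hsh ih

/-- Injectivity on a chain of prime exponent with minimal dependence. -/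
theorem mem_of_map_mem {f : P →* G} {x : ℕ → P} {K : Subgroup P} {k p : ℕ} (hp : p.Prime)
    (hpow : ∀ i, x i ^ p ∈ K) (hK : ∀ i, ∀ y ∈ K, x i * y * (x i)⁻¹ ∈ K)
    (hcomm : ∀ i j, ⁅x i, x j⁆ ∈ K)
    (hmin : ∀ i < k, f (x i) ∉ (chain x K i).map f) :
    ∀ w ∈ chain x K k, f w ∈ K.map f → w ∈ K := by
  suffices h : ∀ n ≤ k, ∀ w ∈ chain x K n, f w ∈ K.map f → w ∈ K from h k le_rfl
  intro n
  induction n with
  | zero =>
    intro _ w hw _
    exact chain_le (fun i hi => absurd hi (Nat.not_lt_zero i)) le_rfl hw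
  | succ n ih =>
    intro hn w hw hfw
    set A := chain x K n with hA
    have hnorm : x n ∈ normalizer (A : Set P) := by
      refine mem_normalizer_of_pow_mem hp.pos (le_normalizer (le_chain x K n (hpow n))) ?_
      intro a ha
      refine (chain_le (A := A.comap (MulAut.conj (x n)).toMonoidHom) (fun i hi => ?_)
        (fun y hy => le_chain x K n (hK n y hy))) ha
      show x n * x i * (x n)⁻¹ ∈ A
      have e : x n * x i * (x n)⁻¹ = ⁅x n, x i⁆ * x i := by simp [commutatorElement_def, mul_assoc]
      rw [e]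
      exact mul_mem (le_chain x K n (hcomm n i)) (mem_chain x K hi)
    have hle : chain x K (n + 1) ≤ zpowers (x n) ⊔ A := chain_le (fun i hi => by
      rcases Nat.lt_or_ge i n with h | h
      · exact mem_sup_right (mem_chain x K h)
      · rw [show i = n by omega]; exact mem_sup_left (mem_zpowers _))
      ((le_chain x K n).trans le_sup_right)
    have hw' := hle hw
    rw [← SetLike.mem_coe, coe_mul_of_left_le_normalizer_right _ _ (zpowers_le.2 hnorm)] at hw'
    obtain ⟨y, ⟨c, rfl⟩, a, ha, rfl⟩ := Set.mem_mul.1 hw'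
    have hfc : f (x n) ^ c ∈ A.map f := by
      have h1 : f ((fun e : ℤ => x n ^ e) c * a) ∈ A.map f := map_mono (le_chain x K n) hfw
      rw [map_mul, map_zpow] at h1
      have h2 := mul_mem h1 (inv_mem (mem_map_of_mem f (SetLike.mem_coe.1 ha)))
      rwa [mul_inv_cancel_right] at h2
    have hdvd : (p : ℤ) ∣ c := by
      by_contra hnd
      obtain ⟨a', b', hab⟩ := (Nat.prime_iff_prime_int.1 hp).coprime_iff_not_dvd.2 hnd
      refine hmin n hn ?_
      have e : f (x n) = (f (x n) ^ (p : ℤ)) ^ a' * (f (x n) ^ c) ^ b' := by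
        rw [← zpow_mul, ← zpow_mul, ← zpow_add, mul_comm (p : ℤ), mul_comm c, hab, zpow_one]
      rw [e]
      refine mul_mem (zpow_mem ?_ _) (zpow_mem hfc _)
      rw [zpow_natCast, ← map_pow]
      exact mem_map_of_mem f (le_chain x K n (hpow n))
    obtain ⟨e, rfl⟩ := hdvd
    have hmem : x n ^ ((p : ℤ) * e) ∈ K := by
      rw [zpow_mul, zpow_natCast]; exact zpow_mem (hpow n) _
    exact ih (Nat.le_of_succ_le hn) _
      (mul_mem (le_chain x K n hmem) (SetLike.mem_coe.1 ha)) hfw

/-- Presenting a quotient by the normal closure of one more element. -/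
theorem presented_quotient {α : Type*} [DecidableEq α] {rels : Finset (FreeGroup α)} (φ : FreeGroup α →* G)
    (hφ : Function.Surjective φ) (hker : φ.ker = normalClosure (rels : Set (FreeGroup α)))
    (N : Subgroup G) [N.Normal] {c : G} (hN : normalClosure {c} = N) :
    ∃ rels' : Finset (FreeGroup α), rels'.card ≤ rels.card + 1 ∧
      Nonempty (PresentedGroup (rels' : Set (FreeGroup α)) ≃* G ⧸ N) := by
  obtain ⟨w, rfl⟩ := hφ c
  refine ⟨insert w rels, Finset.card_insert_le _ _, ⟨?_⟩⟩
  set ψ := (QuotientGroup.mk' N).comp φ with hψ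
  have hsurj : Function.Surjective ψ := (QuotientGroup.mk'_surjective N).comp hφ
  have hk : normalClosure ((insert w rels : Finset (FreeGroup α)) : Set (FreeGroup α)) = ψ.ker := by
    set R := normalClosure ((insert w rels : Finset (FreeGroup α)) : Set (FreeGroup α)) with hR
    have hkerle : φ.ker ≤ R := by
      rw [hker]; exact normalClosure_mono (by simp)
    have himg : R.map φ = N := by
      rw [hR, map_normalClosure _ _ hφ, ← hN, Finset.coe_insert, Set.image_insert_eq]
      refine le_antisymm (normalClosure_le_normal (Set.insert_subset (subset_normalClosure rfl) ?_))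
        (normalClosure_mono (Set.singleton_subset_iff.2 (Set.mem_insert _ _)))
      rintro _ ⟨r, hr, rfl⟩
      have : r ∈ φ.ker := hker ▸ subset_normalClosure hr
      rw [MonoidHom.mem_ker.1 this]; exact one_mem _
    rw [← comap_map_eq_self hkerle, himg, hψ, ← MonoidHom.comap_ker, QuotientGroup.ker_mk']
  exact (QuotientGroup.quotientMulEquivOfEq hk).trans
    (QuotientGroup.quotientKerEquivOfSurjective ψ hsurj)

end CfsgLib.SUThreePresentation
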