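import Cfsg.Agent.SUThreePresentation.Model
import Cfsg.Agent.SUThreeUnipotent.Scalars

/-!
# Scalar facts for the presentation of `SU_3(q)`

A generator `g` of the multiplicative group, its norm `ν = g^(q+1)` (which generates the fixed field's units) and
its multiplier `μ = g^(2q-1)` (whose powers span the field additively).
-/

set_option autoImplicit false

namespace CfsgLib.SUThreePresentation

open CfsgLib.RepBounds.Unit CfsgLib.SUThreeUnipotent

variable {F : Type*} [Field F] [Fintype F] (C : ConjField F)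

/-- Chosen scalars. -/
structure Scal where
  /-- a generator -/
  g : Fˣ
  gen : ∀ x : Fˣ, x ∈ Subgroup.zpowers g
  /-- a skew element -/
  a0 : F
  a0_val : Val C 0 a0
  a0_ne : a0 ≠ 0
  /-- the second parameter of the unipotent generator -/
  d1 : F
  d1_val : Val C 1 d1
  three_le : 3 ≤ C.q

theorem exists_scal (h3 : 3 ≤ C.q) : Nonempty (Scal C) := by
  obtain ⟨g, hg⟩ := IsCyclic.exists_generator (α := Fˣ)
  obtain ⟨a, ha, ha0⟩ := C.exists_skew_ne
  obtain ⟨t, ht⟩ := C.exists_trace_one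
  exact ⟨⟨g, hg, a, val_zero_iff.2 (C.skew_eq ha), ha0, -t,
    by unfold Val; rw [map_neg, map_one]; linear_combination -ht, h3⟩⟩

variable {C}

namespace Scal

variable (D : Scal C)

/-- The order of the torus. -/
abbrev m (_D : Scal C) : ℕ := C.q ^ 2 - 1

/-- The norm of the generator. -/
def nu : F := nrm C (D.g : F)

/-- The multiplier of the generator. -/
def mug : F := mu C (D.g : F)

theorem orderOf_g : orderOf D.g = D.m := by
  classical
  rw [orderOf_eq_card_of_forall_mem_zpowers D.gen, Nat.card_units, Nat.card_eq_fintype_card, C.card]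

theorem m_pos : 0 < D.m := by
  have := D.three_le
  show 0 < C.q ^ 2 - 1
  nlinarith [Nat.sub_add_cancel (show 1 ≤ C.q ^ 2 by nlinarith)]

theorem g_pow_m : D.g ^ D.m = 1 := by rw [← D.orderOf_g]; exact pow_orderOf_eq_one _

theorem exists_pow (x : Fˣ) : ∃ n : ℕ, D.g ^ n = x := by
  obtain ⟨n, hn⟩ := mem_powers_iff_mem_zpowers.2 (D.gen x)
  exact ⟨n, hn⟩

theorem exists_pow_val {x : F} (hx : x ≠ 0) : ∃ n : ℕ, (D.g : F) ^ n = x := by
  obtain ⟨n, hn⟩ := D.exists_pow (Units.mk0 x hx)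
  exact ⟨n, by rw [← Units.val_pow_eq_pow_val, hn, Units.val_mk0]⟩

theorem g_ne : (D.g : F) ≠ 0 := D.g.ne_zero

theorem nu_eq : D.nu = (D.g : F) ^ (C.q + 1) := by rw [nu, nrm, C.pow, pow_succ, mul_comm]

theorem nu_fixed : C.σ D.nu = D.nu := nrm_fixed _

theorem nu_ne : D.nu ≠ 0 := nrm_ne D.g_ne

theorem mug_ne : D.mug ≠ 0 := mu_ne D.g_ne

theorem exists_nu_pow {x : F} (hx : C.σ x = x) (hx0 : x ≠ 0) : ∃ n : ℕ, D.nu ^ n = x := by
  obtain ⟨y, hy⟩ := CfsgLib.Forms.exists_mul_involution_eq C.ne_id C.invol hx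
  obtain ⟨n, hn⟩ := D.exists_pow_val (x := y) (by rintro rfl; rw [zero_mul] at hy; exact hx0 hy.symm)
  exact ⟨n, by rw [nu, ← nrm_pow, hn, nrm, hy]⟩

theorem exists_skew_pow {c : F} (hc : Val C 0 c) (hc0 : c ≠ 0) {b : F} (hb : Val C 0 b) (hb0 : b ≠ 0) :
    ∃ n : ℕ, D.nu ^ n * b = c := by
  rw [val_zero_iff] at hc hb
  obtain ⟨n, hn⟩ := D.exists_nu_pow (x := c / b) (by rw [map_div₀, hc, hb, neg_div_neg_eq])
    (div_ne_zero hc0 hb0)
  exact ⟨n, by rw [hn, div_mul_cancel₀ _ hb0]⟩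

theorem g_pow_eq_one {n : ℕ} (h : (D.g : F) ^ n = 1) : D.m ∣ n := by
  rw [← D.orderOf_g]
  exact orderOf_dvd_of_pow_eq_one (Units.ext (by rw [Units.val_pow_eq_pow_val, h, Units.val_one]))

theorem one_add_nu_ne (h4 : 4 ≤ C.q) : 1 + D.nu ≠ 0 := by
  intro h
  have e : (D.g : F) ^ (2 * (C.q + 1)) = 1 := by
    rw [mul_comm, pow_mul, ← nu_eq]; linear_combination (D.nu - 1) * h
  have := Nat.le_of_dvd (by omega) (D.g_pow_eq_one e)
  have h2 : C.q ^ 2 = C.q * C.q := pow_two _
  simp only [m] at this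
  nlinarith [Nat.sub_add_cancel (show 1 ≤ C.q ^ 2 by nlinarith)]

theorem mug_eq : D.mug = (D.g : F) ^ (2 * C.q - 1) := by
  have h4 := D.three_le
  rw [mug, mu, C.pow, ← pow_add, div_eq_iff D.g_ne, ← pow_succ]
  congr 1
  omega

theorem g_cube : (D.g : F) ^ 3 = mu C ((D.g : F) ^ (2 * C.q + 1)) := by
  have h4 := D.three_le
  rw [mu_pow, ← mug, D.mug_eq, ← pow_mul]
  have e : (2 * C.q - 1) * (2 * C.q + 1) = 3 + 4 * D.m := by
    obtain ⟨r, hr⟩ : ∃ r, C.q = r + 1 := ⟨C.q - 1, by omega⟩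
    have hm : D.m = r * r + 2 * r := by
      show C.q ^ 2 - 1 = _
      rw [hr, show (r + 1) ^ 2 = r * r + 2 * r + 1 by ring, Nat.add_sub_cancel]
    rw [hm, hr, show 2 * (r + 1) - 1 = 2 * r + 1 by omega]; ring
  have hg : (D.g : F) ^ D.m = 1 := by rw [← Units.val_pow_eq_pow_val, D.g_pow_m, Units.val_one]
  rw [e, pow_add, mul_comm 4, pow_mul, hg, one_pow, mul_one]

theorem mug_pow_eq_one {j : ℕ} (h : D.mug ^ j = 1) : D.m ∣ 3 * j := by
  rw [mug, ← mu_pow] at h
  refine D.g_pow_eq_one ?_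
  rw [pow_mul, D.g_cube, ← mu_pow, ← pow_mul, mul_comm, pow_mul, mu_pow, h, one_pow]

theorem not_small {j : ℕ} (hj : 0 < j) (h : 3 * j < D.m) : D.mug ^ j ≠ 1 := fun he => by
  have := Nat.le_of_dvd (by omega) (D.mug_pow_eq_one he)
  omega

theorem pow_pred_of_fixed {x : F} (hx : C.σ x = x) (hx0 : x ≠ 0) : x ^ (C.q - 1) = 1 := by
  have h4 := C.two_le
  have e : x ^ (C.q - 1) * x = x := by
    rw [← pow_succ, Nat.sub_add_cancel (by omega), ← C.pow, hx]
  exact (mul_eq_right₀ hx0).1 e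

theorem mug_not_fixed : C.σ D.mug ≠ D.mug := by
  intro h
  have h4 := D.three_le
  refine D.not_small (j := C.q - 1) (by omega) ?_ (pow_pred_of_fixed h D.mug_ne)
  obtain ⟨r, hr⟩ : ∃ r, C.q = r + 1 := ⟨C.q - 1, by omega⟩
  show 3 * (C.q - 1) < C.q ^ 2 - 1
  rw [hr, show (r + 1) ^ 2 = r * r + 2 * r + 1 by ring, Nat.add_sub_cancel, Nat.add_sub_cancel]
  nlinarith

theorem mug_trace_ne (h5 : C.q ≠ 5) : D.mug + C.σ D.mug ≠ 0 := by
  intro h
  have h4 := D.three_le
  have e : (D.mug ^ 2) ^ (C.q - 1) = 1 := pow_pred_of_fixed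
    (by rw [map_pow, show C.σ D.mug = -D.mug by linear_combination h, neg_sq])
    (pow_ne_zero _ D.mug_ne)
  rw [← pow_mul] at e
  have h3 := D.mug_pow_eq_one e
  obtain ⟨r, hr⟩ : ∃ r, C.q = r + 1 := ⟨C.q - 1, by omega⟩
  have hm : D.m = r * (r + 2) := by
    show C.q ^ 2 - 1 = _
    rw [hr, show (r + 1) ^ 2 = r * (r + 2) + 1 by ring, Nat.add_sub_cancel]
  rw [hm, hr, Nat.add_sub_cancel, show 3 * (2 * r) = r * 6 by ring] at h3
  have h6 : (r + 2) ∣ 6 := Nat.dvd_of_mul_dvd_mul_left (by omega) h3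
  have := Nat.le_of_dvd (by norm_num) h6
  have hr4 : r ≤ 4 := by omega
  interval_cases r <;> first | omega | norm_num at h6

/-- Every additive subgroup containing the powers of `μ` is everything. -/
theorem span_mug {A : AddSubgroup F} (hA : ∀ n : ℕ, D.mug ^ n ∈ A) (x : F) : x ∈ A := by
  classical
  set A0 := AddSubgroup.closure (Set.range fun n : ℕ => D.mug ^ n) with hA0
  have hle : A0 ≤ A := (AddSubgroup.closure_le _).2 (by rintro _ ⟨n, rfl⟩; exact hA n)
  refine hle ?_
  have h1 : (1 : F) ∈ A0 := AddSubgroup.subset_closure ⟨0, pow_zero _⟩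
  have hmul : ∀ a ∈ A0, ∀ b ∈ A0, a * b ∈ A0 := fun a ha b hb => by
    induction ha using AddSubgroup.closure_induction with
    | mem a ha =>
      obtain ⟨i, rfl⟩ := ha
      induction hb using AddSubgroup.closure_induction with
      | mem b hb =>
        obtain ⟨j, rfl⟩ := hb
        exact AddSubgroup.subset_closure ⟨i + j, pow_add _ _ _⟩
      | zero => rw [mul_zero]; exact zero_mem _
      | add b c _ _ h1 h2 => rw [mul_add]; exact add_mem h1 h2
      | neg b _ h1 => rw [mul_neg]; exact neg_mem h1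
    | zero => rw [zero_mul]; exact zero_mem _
    | add a c _ _ h1 h2 => rw [add_mul]; exact add_mem h1 h2
    | neg a _ h1 => rw [neg_mul]; exact neg_mem h1
  let R : Subring F := { A0 with one_mem' := h1, mul_mem' := fun {a b} ha hb => hmul a ha b hb }
  set B := subfieldOf R with hB
  have hmemB : ∀ n : ℕ, D.mug ^ n ∈ B := fun n => AddSubgroup.subset_closure ⟨n, rfl⟩
  suffices h : B = ⊤ by
    have : x ∈ B := h ▸ Subfield.mem_top x
    exact this
  by_contra hne
  haveI : Fintype B := Fintype.ofFinite _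
  have hcard := Module.card_eq_pow_finrank (K := B) (V := F)
  have hfr : 2 ≤ Module.finrank B F := by
    have h0 : 0 < Module.finrank B F := Module.finrank_pos
    rcases Nat.lt_or_ge (Module.finrank B F) 2 with hlt | hge
    · exfalso
      apply hne
      have e1 : Fintype.card B = Fintype.card F := by
        rw [hcard, show Module.finrank B F = 1 by omega, pow_one]
      refine SetLike.ext fun y => iff_of_true ?_ (Subfield.mem_top y)
      obtain ⟨b, hb⟩ := ((Fintype.bijective_iff_injective_and_card (Subtype.val : B → F)).2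
        ⟨Subtype.val_injective, e1⟩).2 y
      exact hb ▸ b.2
    · exact hge
  have hBq : Fintype.card B ≤ C.q := by
    refine Nat.pow_le_pow_iff_left two_ne_zero |>.1 ?_
    rw [← C.card, hcard]
    exact Nat.pow_le_pow_right Fintype.card_pos hfr
  have h4 := D.three_le
  have h2B : 1 < Fintype.card B := Fintype.one_lt_card
  have e : (⟨D.mug ^ 1, hmemB 1⟩ : B) ^ (Fintype.card B - 1) = 1 :=
    FiniteField.pow_card_sub_one_eq_one _ (fun h => D.mug_ne (by simpa using congrArg Subtype.val h))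
  have e2 : D.mug ^ (Fintype.card B - 1) = 1 := by simpa using congrArg Subtype.val e
  refine D.not_small (j := Fintype.card B - 1) (by omega) ?_ e2
  obtain ⟨r, hr⟩ : ∃ r, C.q = r + 1 := ⟨C.q - 1, by omega⟩
  show 3 * (Fintype.card B - 1) < C.q ^ 2 - 1
  rw [hr, show (r + 1) ^ 2 = r * r + 2 * r + 1 by ring, Nat.add_sub_cancel]
  have : Fintype.card B - 1 ≤ r := by omega
  nlinarith

end Scal

end CfsgLib.SUThreePresentation
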