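import Cfsg.Agent.SUThreePresentation.GroupLemmas
import Cfsg.Agent.SUThreePresentation.Scalars

/-!
# Groups satisfying the short relations of `SU_3(q)`

`Pres Mo D P`: the group `P` is generated by `u, h, s` satisfying the consequences of the relations used in the
proof, and maps to `G` with `u ↦ U(1,d₁)`, `h ↦ T(g)`, `s ↦ S`.
-/

set_option autoImplicit false

namespace CfsgLib.SUThreePresentation

open CfsgLib.RepBounds.Unit Subgroup
open scoped commutatorElement

variable {P : Type*} [Group P]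

/-- Conjugates by powers of `h`. -/
def cj (h x : P) (n : ℕ) : P := MulAut.conj (h ^ n) x

/-- The central root element. -/
def zed (u h : P) : P := ⁅u, cj h u 1⁆

/-- The central root group. -/
def kGrp (u h : P) : Subgroup P := closure (Set.range (cj h (zed u h)))

/-- The root group. -/
def wGrp (u h : P) : Subgroup P := closure (Set.range (cj h u)) ⊔ kGrp u h

theorem map_cj {P' : Type*} [Group P'] (φ : P →* P') (h x : P) (n : ℕ) :
    φ (cj h x n) = cj (φ h) (φ x) n := by
  simp [cj, MulAut.conj_apply, -map_pow, map_pow φ]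

theorem map_zed {P' : Type*} [Group P'] (φ : P →* P') (u h : P) : φ (zed u h) = zed (φ u) (φ h) := by
  rw [zed, zed, map_commutatorElement, map_cj]

theorem map_kGrp {P' : Type*} [Group P'] (φ : P →* P') (u h : P) :
    (kGrp u h).map φ = kGrp (φ u) (φ h) := by
  rw [kGrp, MonoidHom.map_closure, ← Set.range_comp, kGrp]
  congr 2
  funext n
  simp [map_cj, map_zed]

theorem map_wGrp {P' : Type*} [Group P'] (φ : P →* P') (u h : P) :
    (wGrp u h).map φ = wGrp (φ u) (φ h) := by
  rw [wGrp, Subgroup.map_sup, map_kGrp, MonoidHom.map_closure, ← Set.range_comp, wGrp]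
  congr 3
  funext n
  simp [map_cj]

variable {F : Type*} [Field F] [Fintype F] {C : ConjField F}

/-- The base parameter with `σ d = -(σg/g) d` over a given first parameter. -/
def Scal.lift (D : Scal C) (s : F) : F :=
  -nrm C s / (D.a0 * D.g + C.σ (D.a0 * D.g)) * (D.a0 * D.g)

/-- The parameters of the four rank one relations. -/
def Scal.base (D : Scal C) : Fin 4 → F × F :=
  ![(0, D.a0), (1, D.lift 1), ((D.g : F), D.lift D.g), ((D.g : F) ^ 2, D.lift ((D.g : F) ^ 2))]

variable {G : Type*} [Group G]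

/-- A group with the relations. -/
structure Pres (Mo : Model C G) (D : Scal C) (P : Type*) [Group P] where
  /-- the map to the model -/
  f : P →* G
  /-- unipotent generator -/
  u : P
  /-- torus generator -/
  h : P
  /-- involution -/
  s : P
  f_u : f u = Mo.U 1 D.d1
  f_h : f h = Mo.T D.g
  f_s : f s = Mo.S
  top : closure ({u, h, s} : Set P) = ⊤
  h_pow : h ^ D.m = 1
  z_pow : zed u h ^ ringChar F = 1
  z_comm : Commute (zed u h) (cj h (zed u h) 1)
  z_dep : ∃ k, cj h (zed u h) k ∈ chain (cj h (zed u h)) ⊥ k ∧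
    ∀ i < k, f (cj h (zed u h) i) ∉ (chain (cj h (zed u h)) ⊥ i).map f
  u_z : ∀ n < 4, Commute u (cj h (zed u h) (n + (D.m - 2)))
  /-- the telescopes, or few generators of the root groups -/
  tel : ((∃ i, cj h (zed u h) i = zed u h * cj h (zed u h) 1) ∧
      (∃ i, cj h u i * (u * cj h u (C.q + 1))⁻¹ ∈ kGrp u h) ∧
      ⁅u, cj h u (C.q + 1)⁆ ∈ kGrp u h ∧
      ∃ l i : ℕ, cj h u i * (u * cj h u (1 + l * (C.q + 1)))⁻¹ ∈ kGrp u h ∧
        ⁅u, cj h u (1 + l * (C.q + 1))⁆ ∈ kGrp u h ∧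
        ⁅u, cj h u (C.q + 1 + (1 + l * (C.q + 1)))⁆ ∈ kGrp u h) ∨
    ((∀ n, cj h (zed u h) n ∈ zpowers (zed u h)) ∧
      ∀ n, cj h u n ∈ chain (cj h u) (kGrp u h) 2)
  u_pow : u ^ ringChar F ∈ kGrp u h
  u_dep : ∃ k, cj h u k ∈ chain (cj h u) (kGrp u h) k ∧
    ∀ i < k, f (cj h u i) ∉ (chain (cj h u) (kGrp u h) i).map f
  s_sq : s * s = 1
  s_h : ∃ i : ℕ, s * h * s = h ^ i
  rank : ∀ b : Fin 4, ∀ hd : (D.base b).2 ≠ 0,
    ∃ w ∈ wGrp u h, ∃ wl ∈ wGrp u h, ∃ wr ∈ wGrp u h, ∃ i : ℕ,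
      f w = Mo.U (D.base b).1 (D.base b).2 ∧
      f wl = Mo.U (-(D.base b).1 / (D.base b).2) (1 / (D.base b).2) ∧
      f wr = Mo.U (-(D.base b).1 / C.σ (D.base b).2) (1 / (D.base b).2) ∧
      D.g ^ i = iota C (Units.mk0 (D.base b).2 hd) ∧ s * w * s = wl * h ^ i * s * wr

end CfsgLib.SUThreePresentation
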