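import Cfsg.Agent.SUThreePresentation.Cells

/-!
# The twenty two relations
-/

set_option autoImplicit false

namespace CfsgLib.SUThreePresentation

open CfsgLib.RepBounds.Unit Subgroup
open scoped commutatorElement

variable {F : Type*} [Field F] [Fintype F] {C : ConjField F} {G : Type*} [Group G]
  (Mo : Model C G) (D : Scal C)

theorem map_chain {P P' : Type*} [Group P] [Group P'] (φ : P →* P') (x : ℕ → P) (K : Subgroup P) (k : ℕ) :
    (chain x K k).map φ = chain (φ ∘ x) (K.map φ) k := by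
  rw [chain, Subgroup.map_sup, MonoidHom.map_closure, ← Set.image_comp, chain]

theorem model_cj {a d : F} (h : Val C a d) (n : ℕ) :
    cj (Mo.T D.g) (Mo.U a d) n = Mo.U (D.mug ^ n * a) (D.nu ^ n * d) := by
  rw [cj, MulAut.conj_apply, ← map_pow, Mo.T_conj _ h, Units.val_pow_eq_pow_val, mu_pow, nrm_pow,
    Scal.mug, Scal.nu]

theorem model_x (n : ℕ) :
    cj (Mo.T D.g) (Mo.U 1 D.d1) n = Mo.U (D.mug ^ n) (D.nu ^ n * D.d1) := by
  rw [model_cj Mo D D.d1_val, mul_one]

theorem c1_val : Val C 0 (C.σ D.mug - D.mug) := by rw [val_zero_iff, map_sub, C.invol]; ring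

theorem model_z (n : ℕ) :
    cj (Mo.T D.g) (zed (Mo.U 1 D.d1) (Mo.T D.g)) n = Mo.U 0 (D.nu ^ n * (C.σ D.mug - D.mug)) := by
  rw [zed, model_x, Mo.U_commutator D.d1_val (D.val_x 1), pow_one, map_one, one_mul, mul_one,
    model_cj Mo D (c1_val D), mul_zero]

theorem model_kGrp : kGrp (Mo.U 1 D.d1) (Mo.T D.g) = Mo.ZU := by
  refine le_antisymm ((closure_le _).2 ?_) ?_
  · rintro _ ⟨n, rfl⟩
    exact ⟨_, D.val_cent (c1_val D) n, model_z Mo D n⟩
  · rintro _ ⟨c, hc, rfl⟩
    by_cases h0 : c = 0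
    · rw [h0, Mo.U_zero]; exact one_mem _
    obtain ⟨n, hn⟩ := D.exists_skew_pow hc h0 (c1_val D) (sub_ne_zero.2 D.mug_not_fixed)
    refine subset_closure ⟨n, ?_⟩
    rw [model_z, hn]

theorem model_wGrp : wGrp (Mo.U 1 D.d1) (Mo.T D.g) = Mo.UU := by
  refine le_antisymm (sup_le ((closure_le _).2 ?_) (by rw [model_kGrp]; exact Mo.ZU_le)) ?_
  · rintro _ ⟨n, rfl⟩
    exact ⟨_, _, D.val_x n, model_x Mo D n⟩
  · rintro _ ⟨a, d, h, rfl⟩
    set W := wGrp (Mo.U 1 D.d1) (Mo.T D.g) with hW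
    let A : AddSubgroup F :=
      { carrier := {s | ∃ d, Val C s d ∧ Mo.U s d ∈ W}
        zero_mem' := ⟨0, Val.zero, by rw [Mo.U_zero]; exact one_mem _⟩
        add_mem' := by
          rintro a b ⟨d, hd, e⟩ ⟨d', hd', e'⟩
          exact ⟨_, hd.mul hd', by rw [← Mo.U_mul hd hd']; exact mul_mem e e'⟩
        neg_mem' := by
          rintro a ⟨d, hd, e⟩
          exact ⟨_, hd.inv, by rw [← Mo.U_inv hd]; exact inv_mem e⟩ }
    obtain ⟨d', hd', e⟩ : a ∈ A := D.span_mug (A := A) (fun n => ⟨_, D.val_x n, by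
      rw [← model_x Mo D n]; exact mem_sup_left (subset_closure ⟨n, rfl⟩)⟩) a
    have hc : Val C 0 (d - d') := by
      rw [val_zero_iff, map_sub]; unfold Val at h hd'; linear_combination h - hd'
    have e2 : Mo.U 0 (d - d') ∈ W := mem_sup_right (by rw [model_kGrp]; exact ⟨_, hc, rfl⟩)
    have := mul_mem e e2
    rwa [Mo.U_central hc hd', add_sub_cancel] at this

theorem model_ratio {a d d' : F} (h : Val C a d) (h' : Val C a d') :
    Mo.U a d * (Mo.U a d')⁻¹ ∈ Mo.ZU := by
  rw [Mo.U_inv h', Mo.U_mul h h'.inv, add_neg_cancel]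
  exact ⟨_, by simpa using h.mul h'.inv, rfl⟩

theorem natCast_of_fixed (hp : C.q.Prime) {x : F} (hx : C.σ x = x) : ∃ n : ℕ, (n : F) = x := by
  have : Fact C.q.Prime := ⟨hp⟩
  have hchar : CharP F C.q := charP_of_card_eq_prime_pow (f := 2) C.card
  have hmem : ∀ n : Fin C.q, C.σ ((n : ℕ) : F) = ((n : ℕ) : F) := fun n => map_natCast _ _
  let f : Fin C.q → CfsgLib.SUThreeUnipotent.fixField C := fun n => ⟨((n : ℕ) : F), hmem n⟩
  have hinj : Function.Injective f := fun a b e =>
    Fin.ext (CharP.natCast_injOn_Iio F C.q a.2 b.2 (congrArg Subtype.val e))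
  obtain ⟨n, hn⟩ := (hinj.bijective_of_nat_card_le
    (by rw [CfsgLib.SUThreeUnipotent.card_fixField, Nat.card_eq_fintype_card, Fintype.card_fin])).2 ⟨x, hx⟩
  exact ⟨n, congrArg Subtype.val hn⟩

theorem base_ne (b : Fin 4) : (D.base b).2 ≠ 0 := by
  fin_cases b
  · simpa [Scal.base] using D.a0_ne
  · simpa [Scal.base] using D.lift_ne one_ne_zero
  · simpa [Scal.base] using D.lift_ne D.g_ne
  · simpa [Scal.base] using D.lift_ne (pow_ne_zero 2 D.g_ne)

include Mo D in
/-- The presentation with twenty two relations. -/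
theorem exists_rels : ∃ (φ : FreeGroup (Fin 3) →* G) (rels : Finset (FreeGroup (Fin 3))),
    rels.card ≤ 22 ∧ Function.Surjective φ ∧ φ.ker = normalClosure (rels : Set (FreeGroup (Fin 3))) ∧
    Nonempty (PresentedGroup (rels : Set (FreeGroup (Fin 3))) ≃* G) := by
  classical
  set φ : FreeGroup (Fin 3) →* G := FreeGroup.lift ![Mo.U 1 D.d1, Mo.T D.g, Mo.S] with hφ
  set u : FreeGroup (Fin 3) := FreeGroup.of 0 with hu
  set h : FreeGroup (Fin 3) := FreeGroup.of 1 with hh
  set s : FreeGroup (Fin 3) := FreeGroup.of 2 with hs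
  have φu : φ u = Mo.U 1 D.d1 := by simp [hφ, hu]
  have φh : φ h = Mo.T D.g := by simp [hφ, hh]
  have φs : φ s = Mo.S := by simp [hφ, hs]
  set z : ℕ → FreeGroup (Fin 3) := cj h (zed u h) with hz
  set x : ℕ → FreeGroup (Fin 3) := cj h u with hx
  have φx : ∀ n, φ (x n) = Mo.U (D.mug ^ n) (D.nu ^ n * D.d1) := fun n => by
    rw [hx, map_cj, φu, φh, model_x]
  have φz : ∀ n, φ (z n) = Mo.U 0 (D.nu ^ n * (C.σ D.mug - D.mug)) := fun n => by
    rw [hz, map_cj, map_zed, φu, φh, model_z]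
  have φc : φ (zed u h) = Mo.U 0 (C.σ D.mug - D.mug) := by
    have h0 := φz 0
    rwa [hz, cj_zero, pow_zero, one_mul] at h0
  have φK : (kGrp u h).map φ = Mo.ZU := by rw [map_kGrp, φu, φh, model_kGrp]
  have φW : (wGrp u h).map φ = Mo.UU := by rw [map_wGrp, φu, φh, model_wGrp]
  have toK : ∀ w, φ w ∈ Mo.ZU → ∃ k ∈ kGrp u h, φ k = φ w := fun w hw => by
    rw [← φK] at hw; exact hw
  have hm := D.m_pos
  have gm : (D.g : F) ^ D.m = 1 := by rw [← Units.val_pow_eq_pow_val, D.g_pow_m, Units.val_one]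
  have num : D.nu ^ D.m = 1 := by rw [Scal.nu, ← nrm_pow, gm, nrm_one]
  have mum : D.mug ^ D.m = 1 := by rw [Scal.mug, ← mu_pow, gm, mu_one]
  have hp : ((ringChar F : ℕ) : F) = 0 := CharP.cast_eq_zero F (ringChar F)
  have hμq : D.mug ^ (C.q + 1) = D.nu := by
    rw [Scal.mug, ← mu_pow, ← D.nu_eq, mu_fixed D.nu_fixed]
  obtain ⟨j2, hj2⟩ := D.exists_pow (iota C D.g)
  -- dependences
  have hzex : ∃ k, φ (z k) ∈ (chain z ⊥ k).map φ := ⟨D.m, by
    have e : φ (z D.m) = φ (z 0) := by rw [φz, φz, num, pow_zero]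
    rw [e]; exact mem_map_of_mem φ (mem_chain z ⊥ hm)⟩
  obtain ⟨ζ5, hζ5, eζ5⟩ := Nat.find_spec hzex
  have hxex : ∃ k, φ (x k) ∈ (chain x (kGrp u h) k).map φ := ⟨D.m, by
    have e : φ (x D.m) = φ (x 0) := by rw [φx, φx, num, mum, pow_zero, pow_zero]
    rw [e]; exact mem_map_of_mem φ (mem_chain x _ hm)⟩
  obtain ⟨ζ16, hζ16, eζ16⟩ := Nat.find_spec hxex
  -- corrections
  have hrat : ∀ a b i, D.mug ^ i = D.mug ^ a + D.mug ^ b →
      φ (x i * (x a * x b)⁻¹) ∈ Mo.ZU := fun a b i hi => by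
    rw [map_mul, map_inv, map_mul, φx, φx, φx, Mo.U_mul (D.val_x a) (D.val_x b), hi]
    exact model_ratio Mo (hi ▸ D.val_x i) ((D.val_x a).mul (D.val_x b))
  have hcom : ∀ b, φ ⁅u, x b⁆ ∈ Mo.ZU := fun b => by
    rw [map_commutatorElement, φu, φx, Mo.U_commutator D.d1_val (D.val_x b)]
    refine ⟨_, ?_, rfl⟩
    rw [val_zero_iff]; simp only [map_sub, map_mul, map_one, C.invol]; ring
  have hx0 : x 0 = u := cj_zero _ _
  obtain ⟨k15, hk15, e15⟩ := toK (u ^ ringChar F) (by
    obtain ⟨d', hd', e⟩ := Mo.exists_pow D.d1_val (ringChar F)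
    rw [map_pow, φu, e]
    rw [hp, zero_mul] at hd' ⊢
    exact ⟨d', hd', rfl⟩)
  -- the telescopes, or few root group generators
  have hπK : ∀ {P : Type} [Group P] (π : FreeGroup (Fin 3) →* P) (y k : FreeGroup (Fin 3)),
      k ∈ kGrp u h → π (y * k⁻¹) = 1 → π y ∈ kGrp (π u) (π h) := fun π y k hk e => by
    rw [map_mul, map_inv, mul_inv_eq_one] at e
    rw [e, ← map_kGrp]; exact mem_map_of_mem π hk
  obtain ⟨T, hTlen, hTval, hTtel⟩ : ∃ T : List (FreeGroup (Fin 3)), T.length ≤ 6 ∧ (∀ r ∈ T, φ r = 1) ∧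
      ∀ {P : Type} [Group P] (π : FreeGroup (Fin 3) →* P), (∀ r ∈ T, π r = 1) →
        π (z (Nat.find hzex) * ζ5⁻¹) = 1 → π (x (Nat.find hxex) * ζ16⁻¹) = 1 →
        ((∃ i, cj (π h) (zed (π u) (π h)) i = zed (π u) (π h) * cj (π h) (zed (π u) (π h)) 1) ∧
          (∃ i, cj (π h) (π u) i * (π u * cj (π h) (π u) (C.q + 1))⁻¹ ∈ kGrp (π u) (π h)) ∧
          ⁅π u, cj (π h) (π u) (C.q + 1)⁆ ∈ kGrp (π u) (π h) ∧
          ∃ l i : ℕ, cj (π h) (π u) i * (π u * cj (π h) (π u) (1 + l * (C.q + 1)))⁻¹ ∈ kGrp (π u) (π h) ∧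
            ⁅π u, cj (π h) (π u) (1 + l * (C.q + 1))⁆ ∈ kGrp (π u) (π h) ∧
            ⁅π u, cj (π h) (π u) (C.q + 1 + (1 + l * (C.q + 1)))⁆ ∈ kGrp (π u) (π h)) ∨
        ((∀ n, cj (π h) (zed (π u) (π h)) n ∈ zpowers (zed (π u) (π h))) ∧
          ∀ n, cj (π h) (π u) n ∈ chain (cj (π h) (π u)) (kGrp (π u) (π h)) 2) := by
    rcases (show 4 ≤ C.q ∧ C.q ≠ 5 ∨ (C.q = 3 ∨ C.q = 5) by have := D.three_le; omega) with ⟨h4, h5⟩ | hq
    ·
      -- exponents
      obtain ⟨i4, hi4⟩ : ∃ i, D.nu ^ i = 1 + D.nu :=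
        D.exists_nu_pow (by rw [map_add, map_one, D.nu_fixed]) (D.one_add_nu_ne h4)
      obtain ⟨i5, hi5⟩ : ∃ i, (D.g : F) ^ i = 1 + D.nu := D.exists_pow_val (D.one_add_nu_ne h4)
      have hi5' : D.mug ^ i5 = 1 + D.nu := by
        rw [Scal.mug, ← mu_pow, hi5, mu_fixed (by rw [map_add, map_one, D.nu_fixed])]
      have hN : nrm C D.mug ≠ 0 := nrm_ne D.mug_ne
      have hr : C.σ (-(D.mug + C.σ D.mug) / nrm C D.mug) = -(D.mug + C.σ D.mug) / nrm C D.mug := by
        rw [map_div₀, nrm_fixed, map_neg, map_add, C.invol, add_comm]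
      obtain ⟨L, hL⟩ := D.exists_nu_pow hr (div_ne_zero (neg_ne_zero.2 (D.mug_trace_ne h5)) hN)
      obtain ⟨i6, hi6⟩ : ∃ i, D.mug ^ i = 1 + D.mug ^ (1 + L * (C.q + 1)) := by
        obtain ⟨i, hi⟩ := D.exists_pow_val (x := (D.g : F) ^ 2 * (-1 / nrm C D.mug))
          (mul_ne_zero (pow_ne_zero _ D.g_ne) (div_ne_zero (neg_ne_zero.2 one_ne_zero) hN))
        refine ⟨i, ?_⟩
        have hf : C.σ (-1 / nrm C D.mug) = -1 / nrm C D.mug := by
          rw [map_div₀, nrm_fixed, map_neg, map_one]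
        rw [pow_add, pow_one, mul_comm L, pow_mul, hμq, hL]
        conv_lhs => rw [Scal.mug, ← mu_pow, hi, mu_mul, mu_pow, ← Scal.mug, mu_fixed hf]
        field_simp
        simp only [nrm]
        ring
      obtain ⟨k10, hk10, e10⟩ := toK _ (hrat 0 (C.q + 1) i5 (by rw [hi5', pow_zero, hμq]))
      obtain ⟨k11, hk11, e11⟩ := toK _ (hcom (C.q + 1))
      obtain ⟨k12, hk12, e12⟩ := toK _ (hrat 0 (1 + L * (C.q + 1)) i6 (by rw [hi6, pow_zero]))
      obtain ⟨k13, hk13, e13⟩ := toK _ (hcom (1 + L * (C.q + 1)))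
      obtain ⟨k14, hk14, e14⟩ := toK _ (hcom (C.q + 1 + (1 + L * (C.q + 1))))
      rw [hx0] at e10 e12
      refine ⟨[z i4 * (zed u h * z 1)⁻¹, x i5 * (u * x (C.q + 1))⁻¹ * k10⁻¹,
        ⁅u, x (C.q + 1)⁆ * k11⁻¹, x i6 * (u * x (1 + L * (C.q + 1)))⁻¹ * k12⁻¹,
        ⁅u, x (1 + L * (C.q + 1))⁆ * k13⁻¹, ⁅u, x (C.q + 1 + (1 + L * (C.q + 1)))⁆ * k14⁻¹],
        by simp, ?_, ?_⟩
      · intro r hr
        simp only [List.mem_cons, List.not_mem_nil, or_false] at hr
        have hc1 := c1_val D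
        rcases hr with rfl | rfl | rfl | rfl | rfl | rfl
        · rw [map_mul, map_inv, map_mul, φc, φz, φz, Mo.U_central (D.val_cent hc1 1) hc1, mul_inv_eq_one,
            hi4, pow_one]
          congr 1; ring
        · rw [map_mul, map_inv, e10, mul_inv_cancel]
        · rw [map_mul, map_inv, e11, mul_inv_cancel]
        · rw [map_mul, map_inv, e12, mul_inv_cancel]
        · rw [map_mul, map_inv, e13, mul_inv_cancel]
        · rw [map_mul, map_inv, e14, mul_inv_cancel]
      · intro P _ π h1 _ _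
        left
        refine ⟨⟨i4, ?_⟩, ⟨i5, ?_⟩, ?_, L, i6, ?_, ?_, ?_⟩
        · rw [← mul_inv_eq_one, ← map_zed, ← map_cj, ← map_cj, ← map_mul, ← map_inv, ← map_mul]
          exact h1 _ (by simp [hz])
        · rw [← map_cj, ← map_cj, ← map_mul, ← map_inv, ← map_mul]
          exact hπK π _ k10 hk10 (h1 _ (by simp [hx]))
        · rw [← map_cj, ← map_commutatorElement]
          exact hπK π _ k11 hk11 (h1 _ (by simp [hx]))
        · rw [← map_cj, ← map_cj, ← map_mul, ← map_inv, ← map_mul]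
          exact hπK π _ k12 hk12 (h1 _ (by simp [hx]))
        · rw [← map_cj, ← map_commutatorElement]
          exact hπK π _ k13 hk13 (h1 _ (by simp [hx]))
        · rw [← map_cj, ← map_commutatorElement]
          exact hπK π _ k14 hk14 (h1 _ (by simp [hx]))
    · have hfix : ∀ {y : F}, C.σ y = y → ∃ n : ℕ, (n : F) = y := fun {y} hy => natCast_of_fixed
        (hq.elim (fun e => e ▸ Nat.prime_three) (fun e => e ▸ Nat.prime_five)) hy
      have hkz : Nat.find hzex ≤ 1 := Nat.find_min' hzex (by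
        obtain ⟨a, ha⟩ := hfix D.nu_fixed
        refine ⟨z 0 ^ a, pow_mem (mem_chain z ⊥ one_pos) a, ?_⟩
        rw [map_pow, φz, φz, pow_zero, one_mul, Mo.pow_central (c1_val D), ha, pow_one])
      have hkx : Nat.find hxex ≤ 2 := Nat.find_min' hxex (by
        obtain ⟨a, ha⟩ := hfix (y := D.mug + C.σ D.mug) (by rw [map_add, C.invol, add_comm])
        obtain ⟨b, hb⟩ := hfix (y := -nrm C D.mug) (by rw [map_neg, nrm_fixed])
        obtain ⟨d, hd, ed⟩ := Mo.exists_pow (D.val_x 1) a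
        obtain ⟨d', hd', ed'⟩ := Mo.exists_pow (D.val_x 0) b
        have hv := hd.mul hd'
        have e : D.mug ^ 2 = (a : F) * D.mug ^ 1 + (b : F) * D.mug ^ 0 := by
          rw [ha, hb, nrm]; ring
        rw [← e] at hv
        obtain ⟨k, hk, ek⟩ := toK (x 2 * (x 1 ^ a * x 0 ^ b)⁻¹) (by
          rw [map_mul, map_inv, map_mul, map_pow, map_pow, φx, φx, φx, ed, ed', Mo.U_mul hd hd', ← e]
          exact model_ratio Mo (D.val_x 2) hv)
        refine ⟨k * (x 1 ^ a * x 0 ^ b), mul_mem (le_chain x _ 2 hk)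
          (mul_mem (pow_mem (mem_chain x _ one_lt_two) a) (pow_mem (mem_chain x _ two_pos) b)), ?_⟩
        rw [map_mul φ k, ek, ← map_mul, inv_mul_cancel_right])
      refine ⟨[], by simp, by simp, ?_⟩
      intro P _ π _ h5 h16
      right
      rw [map_mul, map_inv, mul_inv_eq_one] at h5 h16
      have hmz : π ∘ z = cj (π h) (zed (π u) (π h)) := by funext n; simp [hz, map_cj, map_zed]
      have hmx : π ∘ x = cj (π h) (π u) := by funext n; simp [hx, map_cj]
      refine ⟨fun n => ?_, fun n => ?_⟩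
      · have h0 := mem_chain_of_dep (MulAut.conj (π h)).toMonoidHom (x := cj (π h) (zed (π u) (π h)))
          (K := ⊥) (k := Nat.find hzex) (fun i => cj_succ _ _ i)
          (fun y hy => by rw [mem_bot] at hy ⊢; rw [hy, map_one])
          (by
            rw [← hmz, ← Subgroup.map_bot π, ← map_chain, Function.comp_apply, h5]
            exact mem_map_of_mem π hζ5) n
        refine chain_le (fun i hi => ?_) bot_le h0
        rw [show i = 0 by omega, cj_zero]
        exact mem_zpowers _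
      · have h0 := mem_chain_of_dep (MulAut.conj (π h)).toMonoidHom (x := cj (π h) (π u))
          (K := kGrp (π u) (π h)) (k := Nat.find hxex) (fun i => cj_succ _ _ i)
          (fun y hy => by
            refine (closure_le ((kGrp (π u) (π h)).comap (MulAut.conj (π h)).toMonoidHom)).2 ?_ hy
            rintro _ ⟨i, rfl⟩
            exact subset_closure ⟨i + 1, (cj_succ _ _ i).symm⟩)
          (by
            rw [← hmx, ← map_kGrp, ← map_chain, Function.comp_apply, h16]
            exact mem_map_of_mem π hζ16) n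
        exact chain_le (fun i hi => mem_chain _ _ (lt_of_lt_of_le hi hkx)) (le_chain _ _ _) h0
  -- rank one words
  have toW : ∀ {a d : F}, Val C a d → ∃ w ∈ wGrp u h, φ w = Mo.U a d := fun {a d} hv => by
    have hmem : Mo.U a d ∈ (wGrp u h).map φ := φW ▸ ⟨a, d, hv, rfl⟩
    exact hmem
  have hbase := fun b : Fin 4 => Pres.base_val (D := D) b
  choose w hw ew using fun b => toW (hbase b)
  choose wl hwl ewl using fun b => toW ((hbase b).left (base_ne D b))
  choose wr hwr ewr using fun b => toW ((hbase b).right (base_ne D b))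
  choose ib hib using fun b => D.exists_pow (iota C (Units.mk0 (D.base b).2 (base_ne D b)))
  set R : List (FreeGroup (Fin 3)) :=
    [h ^ D.m, zed u h ^ ringChar F, ⁅zed u h, z 1⁆, z (Nat.find hzex) * ζ5⁻¹, u ^ ringChar F * k15⁻¹,
      x (Nat.find hxex) * ζ16⁻¹, s * s, s * h * s * (h ^ j2)⁻¹] ++ T ++
      List.ofFn (fun n : Fin 4 => ⁅u, z (n + (D.m - 2))⁆) ++
      List.ofFn (fun b : Fin 4 => s * w b * s * (wl b * h ^ ib b * s * wr b)⁻¹) with hR
  have hval : ∀ r ∈ R, φ r = 1 := by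
    intro r hr
    simp only [hR, List.mem_append, List.mem_cons, List.not_mem_nil, or_false, List.mem_ofFn] at hr
    have hcl : ∀ {c : F}, Val C 0 c → ∀ {a d : F}, Val C a d → ⁅Mo.U a d, Mo.U 0 c⁆ = 1 :=
      fun {c} hc {a d} hv =>
      commutatorElement_eq_one_iff_commute.2 (Mo.commute_central hc hv)
    have hc1 := c1_val D
    rcases hr with ((((rfl | rfl | rfl | rfl | rfl | rfl | rfl | rfl) | hr) | ⟨n, rfl⟩) | ⟨b, rfl⟩)
    · rw [map_pow, φh, ← map_pow, D.g_pow_m, map_one]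
    · rw [map_pow, φc, Mo.pow_central hc1, hp, zero_mul, Mo.U_zero]
    · rw [map_commutatorElement, φc, φz, hcl (D.val_cent hc1 1) hc1]
    · rw [map_mul, map_inv, eζ5, mul_inv_cancel]
    · rw [map_mul, map_inv, e15, mul_inv_cancel]
    · rw [map_mul, map_inv, eζ16, mul_inv_cancel]
    · rw [map_mul, φs, Mo.S_sq]
    · rw [map_mul, map_mul, map_mul, map_inv, map_pow, φs, φh, ← map_pow, hj2, Mo.S_T, mul_inv_cancel]
    · exact hTval r hr
    · rw [map_commutatorElement, φu, φz, hcl (D.val_cent hc1 _) D.d1_val]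
    · rw [map_mul, map_inv, mul_inv_eq_one, map_mul, map_mul, map_mul, map_mul, map_mul, φs, map_pow,
        φh, ← map_pow, ew, ewl, ewr, hib]
      exact Mo.rankOne (hbase b) (base_ne D b)
  set rels : Finset (FreeGroup (Fin 3)) := R.toFinset with hrels
  have hrel : ∀ r ∈ (rels : Set (FreeGroup (Fin 3))),
      FreeGroup.lift ![Mo.U 1 D.d1, Mo.T D.g, Mo.S] r = 1 :=
    fun r hr => hval r (List.mem_toFinset.1 hr)
  set π := PresentedGroup.mk (rels : Set (FreeGroup (Fin 3))) with hπ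
  have h1 : ∀ r ∈ R, π r = 1 := fun r hr => PresentedGroup.one_of_mem (List.mem_toFinset.2 hr)
  have hfπ : ∀ y, PresentedGroup.toGroup hrel (π y) = φ y := fun y => by
    have e : (PresentedGroup.toGroup hrel).comp π = φ := FreeGroup.ext_hom _ _ fun i => by
      show PresentedGroup.toGroup hrel (PresentedGroup.of i) = _
      rw [PresentedGroup.toGroup.of, hφ, FreeGroup.lift_apply_of]
    exact DFunLike.congr_fun e y
  have hmap_z : (π ∘ z) = cj (π h) (zed (π u) (π h)) := by
    funext n; simp [hz, map_cj, map_zed]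
  have hmap_x : (π ∘ x) = cj (π h) (π u) := by funext n; simp [hx, map_cj]
  let Q : Pres Mo D (PresentedGroup (rels : Set (FreeGroup (Fin 3)))) :=
    { f := PresentedGroup.toGroup hrel
      u := π u
      h := π h
      s := π s
      f_u := by rw [hfπ, φu]
      f_h := by rw [hfπ, φh]
      f_s := by rw [hfπ, φs]
      top := by
        rw [eq_top_iff, ← PresentedGroup.closure_range_of, closure_le]
        rintro _ ⟨i, rfl⟩
        refine subset_closure ?_
        fin_cases i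
        · exact Or.inl rfl
        · exact Or.inr (Or.inl rfl)
        · exact Or.inr (Or.inr rfl)
      h_pow := by rw [← map_pow]; exact h1 _ (by simp [hR])
      z_pow := by rw [← map_zed, ← map_pow]; exact h1 _ (by simp [hR])
      z_comm := by
        rw [← commutatorElement_eq_one_iff_commute, ← map_zed, ← map_cj, ← map_commutatorElement]
        exact h1 _ (by simp [hR, hz])
      z_dep := ⟨Nat.find hzex, by
        rw [← hmap_z]
        refine ⟨?_, fun i hi hc => Nat.find_min hzex hi ?_⟩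
        · have e := h1 (z (Nat.find hzex) * ζ5⁻¹) (by simp [hR])
          rw [map_mul, map_inv, mul_inv_eq_one] at e
          rw [Function.comp_apply, e, ← Subgroup.map_bot π, ← map_chain]
          exact mem_map_of_mem π hζ5
        · rw [← Subgroup.map_bot π, ← map_chain, Subgroup.map_map, Function.comp_apply, hfπ] at hc
          rwa [show (PresentedGroup.toGroup hrel).comp π = φ from MonoidHom.ext hfπ] at hc⟩
      u_z := fun n hn => by
        rw [← commutatorElement_eq_one_iff_commute, ← map_zed, ← map_cj, ← map_commutatorElement]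
        refine h1 _ ?_
        simp only [hR, List.mem_append, List.mem_ofFn]
        exact Or.inl (Or.inr ⟨⟨n, hn⟩, rfl⟩)
      tel := hTtel π (fun r hr => h1 r (by simp [hR, hr])) (h1 _ (by simp [hR])) (h1 _ (by simp [hR]))
      u_pow := by
        rw [← map_pow]
        exact hπK π _ k15 hk15 (h1 _ (by simp [hR]))
      u_dep := ⟨Nat.find hxex, by
        rw [← hmap_x, ← map_kGrp]
        refine ⟨?_, fun i hi hc => Nat.find_min hxex hi ?_⟩
        · have e := h1 (x (Nat.find hxex) * ζ16⁻¹) (by simp [hR])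
          rw [map_mul, map_inv, mul_inv_eq_one] at e
          rw [Function.comp_apply, e, ← map_chain]
          exact mem_map_of_mem π hζ16
        · rw [← map_chain, Subgroup.map_map, Function.comp_apply, hfπ] at hc
          rwa [show (PresentedGroup.toGroup hrel).comp π = φ from MonoidHom.ext hfπ] at hc⟩
      s_sq := by rw [← map_mul]; exact h1 _ (by simp [hR])
      s_h := ⟨j2, by
        rw [← mul_inv_eq_one, ← map_pow, ← map_mul, ← map_mul, ← map_inv, ← map_mul]
        exact h1 _ (by simp [hR])⟩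
      rank := fun b _ => ⟨π (w b), map_wGrp π u h ▸ mem_map_of_mem π (hw b),
        π (wl b), map_wGrp π u h ▸ mem_map_of_mem π (hwl b),
        π (wr b), map_wGrp π u h ▸ mem_map_of_mem π (hwr b), ib b,
        by rw [hfπ, ew], by rw [hfπ, ewl], by rw [hfπ, ewr], hib b, by
          rw [← mul_inv_eq_one]
          simp only [← map_mul, ← map_inv, ← map_pow]
          refine h1 _ ?_
          simp only [hR, List.mem_append, List.mem_ofFn]
          exact Or.inr ⟨b, rfl⟩⟩ }
  have hbij := Q.f_bijective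
  refine ⟨φ, rels, ?_, fun g => ?_, ?_, ⟨Q.equiv⟩⟩
  · refine le_trans (List.toFinset_card_le R) ?_
    simp [hR]
    omega
  · obtain ⟨y, hy⟩ := hbij.2 g
    obtain ⟨y', rfl⟩ := PresentedGroup.mk_surjective _ y
    exact ⟨y', (hfπ y').symm.trans hy⟩
  · ext y
    rw [MonoidHom.mem_ker, ← PresentedGroup.mk_eq_one_iff, ← hfπ]
    exact map_eq_one_iff _ hbij.1

end CfsgLib.SUThreePresentation
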